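import Groth.Agent.L23.EtRpush.Shf
import Groth.Agent.L17.FlatBase.CxIso

/-! # The comparison of direct images of modules and of their etale sheaves -/

universe u

open CategoryTheory CategoryTheory.Limits AlgebraicGeometry TopologicalSpace Opposite
open scoped TensorProduct

set_option autoImplicit false
set_option linter.style.haveILetI false
set_option linter.unusedSectionVars false
set_option linter.unusedVariables false
set_option backward.isDefEq.respectTransparency false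
set_option backward.isDefEq.respectTransparency.types false

noncomputable section

namespace Groth.L23.EtRpush

open Groth.L27.Assoc
open Groth.L18.Frame (rs rs_rs rs_self pull pull_rs rs_smul pull_smul)
open Groth.L17.DegZero (app_rs vMap vMap_app transpose_app)

variable {T S : Scheme.{u}} (f : T ⟶ S)

/-- The base changed etale scheme. -/
abbrev bo (U : S.Etale) : T.Etale := (EtCoh.bc f).obj U

/-- The projection to the etale scheme. -/
abbrev pf (U : S.Etale) : (bo f U).left ⟶ U.left := pullback.fst U.hom f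

theorem bo_w (U : S.Etale) : (bo f U).hom ≫ f = pf f U ≫ U.hom := pullback.condition.symm

theorem isPullback_bo (U : S.Etale) : IsPullback (bo f U).hom (pf f U) f U.hom :=
  (IsPullback.of_hasPullback U.hom f).flip

theorem top_le_pre {A B : Scheme.{u}} (g : A ⟶ B) : (⊤ : A.Opens) ≤ g ⁻¹ᵁ ⊤ := fun _ _ => trivial

theorem adjR_pull {X : Scheme.{u}} (F : X.Modules) {U U' : Scheme.{u}} (g : U' ⟶ U) (v : U ⟶ X) (v' : U' ⟶ X)
    (w : g ≫ v = v') (W : X.Opens) (s : Γ(F, W)) (e : g ⁻¹ᵁ (v ⁻¹ᵁ W) ≤ v' ⁻¹ᵁ W) :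
    (adjR F g v v' w).app (v ⁻¹ᵁ W) (pull v F W s) = rs _ e (pull v' F W s) := by
  have h := R_pull F g v v' w s (V := v ⁻¹ᵁ W) (V' := g ⁻¹ᵁ (v ⁻¹ᵁ W)) le_rfl le_rfl e
  rw [← adjR_app, rs_self, rs_self] at h
  exact h

theorem rs_push {A B : Scheme.{u}} (g : A ⟶ B) (M : A.Modules) {O O' : B.Opens} (e : O' ≤ O)
    (s : Γ(M, g ⁻¹ᵁ O)) :
    rs ((Scheme.Modules.pushforward g).obj M) e s = rs M (g.preimage_mono e) s := rfl

section Square

variable {U X' : Scheme.{u}} (v : U ⟶ S) (g' : X' ⟶ T) (f' : X' ⟶ U) (w : g' ≫ f = f' ≫ v)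

/-- The base change map of modules along a square. -/
def bcG (N : T.Modules) :
    Mo ((Scheme.Modules.pushforward f).obj N) v ⟶ (Scheme.Modules.pushforward f').obj (Mo N g') :=
  ((Scheme.Modules.pullbackPushforwardAdjunction v).homEquiv _ _).symm (vMap f v g' f' w N)

include w in
theorem pre_le (W : S.Opens) : f' ⁻¹ᵁ (v ⁻¹ᵁ W) ≤ g' ⁻¹ᵁ (f ⁻¹ᵁ W) := fun x hx => by
  show f (g' x) ∈ W
  rw [← Scheme.Hom.comp_apply, w, Scheme.Hom.comp_apply]
  exact hx

theorem bcG_pull (N : T.Modules) (W : S.Opens) (s : Γ(N, f ⁻¹ᵁ W)) :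
    (bcG f v g' f' w N).app (v ⁻¹ᵁ W) (pull v ((Scheme.Modules.pushforward f).obj N) W s) =
      rs (Mo N g') (pre_le f v g' f' w W) (pull g' N (f ⁻¹ᵁ W) s) :=
  (transpose_app v (vMap f v g' f' w N) W s).trans (vMap_app f v g' f' w N W (pre_le f v g' f' w W) s)

theorem bcG_map {N N' : T.Modules} (φ : N ⟶ N') :
    (Scheme.Modules.pullback v).map ((Scheme.Modules.pushforward f).map φ) ≫ bcG f v g' f' w N' =
      bcG f v g' f' w N ≫ (Scheme.Modules.pushforward f').map ((Scheme.Modules.pullback g').map φ) := by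
  refine ext_pull v fun W s => ?_
  show (bcG f v g' f' w N').app _ (((Scheme.Modules.pullback v).map ((Scheme.Modules.pushforward f).map φ)).app
      (v ⁻¹ᵁ W) (pull v _ W s)) =
    ((Scheme.Modules.pullback g').map φ).app (f' ⁻¹ᵁ (v ⁻¹ᵁ W))
      ((bcG f v g' f' w N).app (v ⁻¹ᵁ W) (pull v _ W s))
  rw [Groth.L17.CxTools.pull_app]
  refine (bcG_pull f v g' f' w N' W _).trans ?_
  refine Eq.trans ?_ (congrArg _ (bcG_pull f v g' f' w N W s)).symm
  rw [app_rs]
  exact congrArg _ (Groth.L17.CxTools.pull_app g' φ (f ⁻¹ᵁ W) s).symm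

variable {U₁ X₁ : Scheme.{u}} (v₁ : U₁ ⟶ S) (g'₁ : X₁ ⟶ T) (f'₁ : X₁ ⟶ U₁) (w₁ : g'₁ ≫ f = f'₁ ≫ v₁)
  (g : U₁ ⟶ U) (hg : g ≫ v = v₁) (b : X₁ ⟶ X') (hb : b ≫ g' = g'₁) (hbg : b ≫ f' = f'₁ ≫ g)

theorem bcG_res (N : T.Modules) :
    adjR ((Scheme.Modules.pushforward f).obj N) g v v₁ hg ≫
        (Scheme.Modules.pushforward g).map (bcG f v₁ g'₁ f'₁ w₁ N) ≫
        (Scheme.Modules.pushforwardComp f'₁ g).hom.app _ =
      bcG f v g' f' w N ≫ (Scheme.Modules.pushforward f').map (adjR N b g' g'₁ hb) ≫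
        (Scheme.Modules.pushforwardComp b f').hom.app _ ≫
        (Scheme.Modules.pushforwardCongr hbg).hom.app _ := by
  refine ext_pull v fun W s => ?_
  have e₀ : g ⁻¹ᵁ (v ⁻¹ᵁ W) ≤ v₁ ⁻¹ᵁ W := le_of_eq (by rw [← hg]; rfl)
  have e₁ : b ⁻¹ᵁ (g' ⁻¹ᵁ (f ⁻¹ᵁ W)) ≤ g'₁ ⁻¹ᵁ (f ⁻¹ᵁ W) := le_of_eq (by rw [← hb]; rfl)
  have hl : (bcG f v₁ g'₁ f'₁ w₁ N).app (g ⁻¹ᵁ (v ⁻¹ᵁ W))
      ((adjR ((Scheme.Modules.pushforward f).obj N) g v v₁ hg).app (v ⁻¹ᵁ W) (pull v _ W s)) =
      rs (Mo N g'₁) ((f'₁.preimage_mono e₀).trans (pre_le f v₁ g'₁ f'₁ w₁ W))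
        (pull g'₁ N (f ⁻¹ᵁ W) s) := by
    rw [adjR_pull _ g v v₁ hg W s e₀, app_rs, bcG_pull, rs_push]
    exact rs_rs _ _ _ _
  have hr : (adjR N b g' g'₁ hb).app (f' ⁻¹ᵁ (v ⁻¹ᵁ W))
        ((bcG f v g' f' w N).app (v ⁻¹ᵁ W) (pull v _ W s)) =
      rs (Mo N g'₁) ((b.preimage_mono (pre_le f v g' f' w W)).trans e₁)
        (pull g'₁ N (f ⁻¹ᵁ W) s) := by
    rw [bcG_pull, app_rs, adjR_pull N b g' g'₁ hb _ _ e₁, rs_push]
    exact rs_rs _ _ _ _
  simp only [Scheme.Modules.Hom.comp_app]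
  refine hl.trans (Eq.trans ?_ (congrArg (rs (Mo N g'₁) (le_of_eq (show (f'₁ ≫ g) ⁻¹ᵁ (v ⁻¹ᵁ W) = (b ≫ f') ⁻¹ᵁ (v ⁻¹ᵁ W) by rw [hbg]))) hr).symm)
  exact (rs_rs _ _ _ _).symm

/-- The base change map on global sections. -/
def bcT (N : T.Modules) : Γ(Mo ((Scheme.Modules.pushforward f).obj N) v, (⊤ : U.Opens)) →+
    Γ(Mo N g', (⊤ : X'.Opens)) :=
  AddMonoidHom.mk' (fun s => rs (Mo N g') (top_le_pre f') ((bcG f v g' f' w N).app ⊤ s))
    (fun s t => (congrArg (rs (Mo N g') _) (map_add ((bcG f v g' f' w N).app ⊤).hom s t)).trans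
      (map_add ((Mo N g').presheaf.map _).hom _ _))

theorem bcT_apply (N : T.Modules) (s : Γ(Mo ((Scheme.Modules.pushforward f).obj N) v, (⊤ : U.Opens))) :
    bcT f v g' f' w N s = rs (Mo N g') (top_le_pre f') ((bcG f v g' f' w N).app ⊤ s) := rfl

include hbg in
theorem bcT_res (N : T.Modules) (s : Γ(Mo ((Scheme.Modules.pushforward f).obj N) v, (⊤ : U.Opens))) :
    bcT f v₁ g'₁ f'₁ w₁ N
        (R ((Scheme.Modules.pushforward f).obj N) g v v₁ hg (V := ⊤) (V' := ⊤) (top_le_pre g) s) =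
      R N b g' g'₁ hb (V := ⊤) (V' := ⊤) (top_le_pre b) (bcT f v g' f' w N s) := by
  have e₁ : (⊤ : X₁.Opens) ≤ f'₁ ⁻¹ᵁ (g ⁻¹ᵁ ⊤) := fun _ _ => trivial
  have h := congrArg (rs (Mo N g'₁) e₁)
    congr($(congrArg (fun k => Scheme.Modules.Hom.app k ⊤)
      (bcG_res f v g' f' w v₁ g'₁ f'₁ w₁ g hg b hb hbg N)) s)
  rw [bcT_apply, bcT_apply, ← adjR_app, ← adjR_app, app_rs, app_rs, rs_push, rs_push, rs_rs, rs_rs]
  simp only [Scheme.Modules.Hom.comp_app] at h
  refine Eq.trans ?_ (h.trans ?_)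
  · rfl
  · exact rs_rs _ _ _ _

theorem bcT_map {N N' : T.Modules} (φ : N ⟶ N')
    (s : Γ(Mo ((Scheme.Modules.pushforward f).obj N) v, (⊤ : U.Opens))) :
    bcT f v g' f' w N' (((Scheme.Modules.pullback v).map ((Scheme.Modules.pushforward f).map φ)).app ⊤ s) =
      ((Scheme.Modules.pullback g').map φ).app ⊤ (bcT f v g' f' w N s) := by
  rw [bcT_apply, bcT_apply, app_rs]
  exact congrArg _ (congr($(congrArg (fun k => Scheme.Modules.Hom.app k ⊤) (bcG_map f v g' f' w φ)) s))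

end Square

theorem bc_w {U U₁ : S.Etale} (g : U₁ ⟶ U) :
    ((EtCoh.bc f).map g).left ≫ pf f U = pf f U₁ ≫ g.left := (EtCoh.isPullback_bc_map f g).w

/-- The base change map on sections. -/
def bcSec (N : T.Modules) (U : S.Etale) :
    Sec ((Scheme.Modules.pushforward f).obj N) U →+ Sec N (bo f U) :=
  bcT f U.hom (bo f U).hom (pf f U) (bo_w f U) N

theorem bcSec_res (N : T.Modules) {U U₁ : S.Etale} (g : U₁ ⟶ U)
    (s : Sec ((Scheme.Modules.pushforward f).obj N) U) :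
    bcSec f N U₁ (res ((Scheme.Modules.pushforward f).obj N) g s) =
      res N ((EtCoh.bc f).map g) (bcSec f N U s) :=
  bcT_res f U.hom (bo f U).hom (pf f U) (bo_w f U) U₁.hom (bo f U₁).hom (pf f U₁) (bo_w f U₁) g.left
    (MorphismProperty.Over.w g) ((EtCoh.bc f).map g).left (MorphismProperty.Over.w ((EtCoh.bc f).map g))
    (bc_w f g) N s

/-- The base change map of presheaves. -/
def bcPsh (N : T.Modules) : psh ((Scheme.Modules.pushforward f).obj N) ⟶ (EtCoh.bc f).op ⋙ psh N where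
  app U := AddCommGrpCat.ofHom (AddMonoidHom.mk' (fun s => ULift.up (bcSec f N U.unop s.down))
    (fun s t => ULift.ext _ _ (map_add (bcSec f N U.unop) s.down t.down)))
  naturality U U₁ g := by
    ext s
    exact ULift.ext _ _ (bcSec_res f N g.unop s.down)

theorem bcPsh_map {N N' : T.Modules} (φ : N ⟶ N') :
    pshMap ((Scheme.Modules.pushforward f).map φ) ≫ bcPsh f N' =
      bcPsh f N ≫ Functor.whiskerLeft (EtCoh.bc f).op (pshMap φ) := by
  ext U s
  refine ULift.ext _ _ ?_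
  exact bcT_map f U.unop.hom (bo f U.unop).hom (pf f U.unop) (bo_w f U.unop) φ s.down

section Alpha

variable {F : T.Modules} (I : InjectiveResolution F)

theorem mono_pshMap {M N : T.Modules} (φ : M ⟶ N) [Mono φ] : Mono (pshMap φ) := by
  haveI : ∀ A, Mono ((pshMap φ).app A) := fun A => (AddCommGrpCat.mono_iff_injective _).2 fun a b h => by
    haveI := Groth.L17.CxTools.preservesFiniteLimits_pullback A.unop.hom
    exact ULift.ext _ _ (Groth.L17.CxTools.injective_app ((Scheme.Modules.pullback A.unop.hom).map φ) ⊤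
      (congrArg ULift.down h))
  exact NatTrans.mono_of_mono_app _

theorem exists_extend {K : ShortComplex T.Modules} (hK : K.Exact) (G : EtCoh.Ab T) [Injective G]
    (ψ : psh K.X₂ ⟶ G.obj) (h : pshMap K.f ≫ ψ = 0) : ∃ χ, pshMap K.g ≫ χ = ψ := by
  haveI : Injective G.obj := Injective.injective_of_adjoint (sheafificationAdjunction _ AddCommGrpCat.{u + 1}) G
  have hz : kernel.ι (pshMap K.g) ≫ ψ = 0 := by
    ext A s
    refine eq_of_loc G (A := A.unop) ?_
    refine (loc_psh_exact hK A.unop ((kernel.ι (pshMap K.g)).app A s)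
      (congr($(congrArg (fun k => NatTrans.app k A) (kernel.condition (pshMap K.g))) s))).mono fun B g ⟨a, ha⟩ => ?_
    refine (NatTrans.naturality_apply ψ g.op _).symm.trans (Eq.trans ?_ (map_zero (G.obj.map g.op).hom).symm)
    refine (congrArg (ψ.app (op B)) ha.symm).trans ?_
    exact congr($(congrArg (fun k => NatTrans.app k (op B)) h) a)
  refine ⟨(ShortComplex.exact_of_f_is_kernel (ShortComplex.mk _ _ (kernel.condition (pshMap K.g)))
    (kernelIsKernel _)).descToInjective ψ hz, ?_⟩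
  exact (ShortComplex.exact_of_f_is_kernel (ShortComplex.mk _ _ (kernel.condition (pshMap K.g)))
    (kernelIsKernel _)).comp_descToInjective ψ hz

variable [Coh.IsQCoh F] (J : InjectiveResolution (sh F))

theorem exists_alpha : ∃ α : ∀ n, psh (I.cocomplex.X n) ⟶ (J.cocomplex.X n).obj,
    (∀ m n, pshMap (I.cocomplex.d m n) ≫ α n = α m ≫ (J.cocomplex.d m n).hom) ∧
      pshMap (I.ι.f 0) ≫ α 0 = (J.ι.f 0).hom := by
  let P := sheafToPresheaf T.smallEtaleTopology AddCommGrpCat.{u + 1}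
  let L : CochainComplex (T.Etaleᵒᵖ ⥤ AddCommGrpCat.{u + 1}) ℕ := (P.mapHomologicalComplex _).obj J.cocomplex
  let K : CochainComplex (T.Etaleᵒᵖ ⥤ AddCommGrpCat.{u + 1}) ℕ :=
    ((PshF T).mapHomologicalComplex _).obj I.cocomplex
  haveI := fun n => J.injective n
  haveI hinj : ∀ n, Injective (L.X n) := fun n =>
    Injective.injective_of_adjoint (sheafificationAdjunction _ AddCommGrpCat.{u + 1}) (J.cocomplex.X n)
  haveI := mono_pshMap (I.ι.f 0)
  let jι : psh F ⟶ L.X 0 := (J.ι.f 0).hom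
  let a₀ : K.X 0 ⟶ L.X 0 := Injective.factorThru jι (pshMap (I.ι.f 0))
  have ha₀ : pshMap (I.ι.f 0) ≫ a₀ = jι := Injective.comp_factorThru _ _
  obtain ⟨a₁, ha₁⟩ := exists_extend I.exact₀ (J.cocomplex.X 1) (a₀ ≫ L.d 0 1) (by
    rw [← Category.assoc]
    exact (congrArg (· ≫ L.d 0 1) ha₀).trans (congrArg (fun k => k.hom) J.ι_f_zero_comp_complex_d))
  have hstep : ∀ n (p : Σ' (g : K.X n ⟶ L.X n) (g' : K.X (n + 1) ⟶ L.X (n + 1)),
      g ≫ L.d n (n + 1) = K.d n (n + 1) ≫ g'),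
      ∃ g'' : K.X (n + 2) ⟶ L.X (n + 2), p.2.1 ≫ L.d (n + 1) (n + 2) = K.d (n + 1) (n + 2) ≫ g'' := by
    rintro n ⟨g, g', hg⟩
    obtain ⟨χ, hχ⟩ := exists_extend (I.exact_succ n) (J.cocomplex.X (n + 2)) (g' ≫ L.d (n + 1) (n + 2)) (by
      show K.d n (n + 1) ≫ g' ≫ L.d (n + 1) (n + 2) = 0
      rw [← reassoc_of% hg, L.d_comp_d, comp_zero])
    exact ⟨χ, hχ.symm⟩
  choose next hnext using hstep
  let φ : K ⟶ L := CochainComplex.mkHom K L a₀ a₁ ha₁.symm fun n p => ⟨next n p, hnext n p⟩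
  exact ⟨fun n => φ.f n, fun m n => (φ.comm m n).symm, ha₀⟩

end Alpha

section Phi

variable {F : T.Modules} (I : InjectiveResolution F) [Coh.IsQCoh F] (J : InjectiveResolution (sh F))
  (α : ∀ n, psh (I.cocomplex.X n) ⟶ (J.cocomplex.X n).obj)

/-- The comparison of presheaves in a degree. -/
def φP (n : ℕ) : psh ((Scheme.Modules.pushforward f).obj (I.cocomplex.X n)) ⟶
    ((EtCoh.push f).obj (J.cocomplex.X n)).obj :=
  bcPsh f (I.cocomplex.X n) ≫ Functor.whiskerLeft (EtCoh.bc f).op (α n)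

theorem φP_app (n : ℕ) (U : S.Etale) (s : (psh ((Scheme.Modules.pushforward f).obj (I.cocomplex.X n))).obj (op U)) :
    (φP f I J α n).app (op U) s = (α n).app (op (bo f U)) ((bcPsh f (I.cocomplex.X n)).app (op U) s) := rfl

variable (hα : ∀ m n, pshMap (I.cocomplex.d m n) ≫ α n = α m ≫ (J.cocomplex.d m n).hom)

include hα in
theorem φP_comm (m n : ℕ) :
    pshMap ((Scheme.Modules.pushforward f).map (I.cocomplex.d m n)) ≫ φP f I J α n =
      φP f I J α m ≫ ((EtCoh.push f).map (J.cocomplex.d m n)).hom := by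
  simp only [φP, ← Category.assoc, bcPsh_map]
  rw [Category.assoc, ← Functor.whiskerLeft_comp, hα, Functor.whiskerLeft_comp, ← Category.assoc]
  rfl

attribute [local instance] Groth.L17.PushQCoh.additive_push

/-- The comparison of complexes. -/
def Φ : ((W S).mapHomologicalComplex (ComplexShape.up ℕ)).obj (Groth.L17.CxIso.cC f I) ⟶
    ((EtCoh.push f).mapHomologicalComplex (ComplexShape.up ℕ)).obj J.cocomplex where
  f n := ((sheafificationAdjunction S.smallEtaleTopology AddCommGrpCat.{u + 1}).homEquiv _ _).symm (φP f I J α n)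
  comm' m n _ := by
    refine ((sheafificationAdjunction S.smallEtaleTopology AddCommGrpCat.{u + 1}).homEquiv_naturality_right_symm _
      _).symm.trans (Eq.trans ?_ ((sheafificationAdjunction S.smallEtaleTopology
        AddCommGrpCat.{u + 1}).homEquiv_naturality_left_symm _ _))
    exact congrArg _ (φP_comm f I J α hα m n).symm

theorem Φ_η (n : ℕ) (U : S.Etale)
    (s : (psh ((Scheme.Modules.pushforward f).obj (I.cocomplex.X n))).obj (op U)) :
    ((Φ f I J α hα).f n).hom.app (op U) ((ηW ((Scheme.Modules.pushforward f).obj (I.cocomplex.X n))).app (op U) s) =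
      (φP f I J α n).app (op U) s := by
  have h : ηW ((Scheme.Modules.pushforward f).obj (I.cocomplex.X n)) ≫ ((Φ f I J α hα).f n).hom =
      φP f I J α n :=
    ((sheafificationAdjunction S.smallEtaleTopology AddCommGrpCat.{u + 1}).homEquiv_unit _ _ _).symm.trans
      (((sheafificationAdjunction S.smallEtaleTopology AddCommGrpCat.{u + 1}).homEquiv _ _).apply_symm_apply _)
  exact congr($(congrArg (fun k => NatTrans.app k (op U)) h) s)

end Phi

end Groth.L23.EtRpush
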