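import Groth.Agent.L23.EtRpush.Qis
import Groth.Agent.L16.AffineBC.Pullback

/-! # The etale higher direct image of the sheaf of a quasi-coherent module -/

universe u

open CategoryTheory CategoryTheory.Limits AlgebraicGeometry TopologicalSpace Opposite
open scoped TensorProduct

set_option autoImplicit false
set_option linter.style.haveILetI false
set_option linter.unusedSectionVars false
set_option linter.unusedVariables false
set_option backward.isDefEq.respectTransparency false
set_option backward.isDefEq.respectTransparency.types false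

noncomputable section

namespace Groth.L23.EtRpush

open Groth.L27.Assoc
open Groth.L18.Frame (rs pull pull_rs rs_rs rs_self rs_smul pull_smul)
open Groth.L17.DegZero (SecA β β_tmul app_rs)
open Groth.L17.CxTheta (secMap pr dB)

attribute [local instance] Groth.L17.CxTools.additive_pullback Groth.L17.CxTools.preservesFiniteColimits_pullback
  Groth.L17.PushQCoh.additive_push

section Pair

variable {S : Scheme.{u}} {U₀ : Scheme.{u}} (v : U₀ ⟶ S) {V : S.Opens} (eV : (⊤ : U₀.Opens) ≤ v ⁻¹ᵁ V)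
  (alg : Algebra Γ(S, V) Γ(U₀, ⊤)) (halg : algebraMap Γ(S, V) Γ(U₀, ⊤) = (v.appLE V ⊤ eV).hom)

/-- A morphism of modules on sections, linearly. -/
def secLin {M N : S.Modules} (φ : M ⟶ N) (W : S.Opens) : Γ(M, W) →ₗ[Γ(S, W)] Γ(N, W) where
  toFun s := φ.app W s
  map_add' a b := map_add (φ.app W).hom a b
  map_smul' a s := φ.app_smul a s

theorem secLin_comp {M N P : S.Modules} (φ : M ⟶ N) (ψ : N ⟶ P) (W : S.Opens) :
    (secLin ψ W).comp (secLin φ W) = secLin (φ ≫ ψ) W := rfl

theorem secLin_zero {M N : S.Modules} (W : S.Opens) : secLin (0 : M ⟶ N) W = 0 := LinearMap.ext fun _ => rfl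

include halg in
theorem appLE_eq (a : Γ(S, V)) :
    algebraMap Γ(S, V) Γ(U₀, ⊤) a = U₀.presheaf.map (homOfLE eV).op (v.app V a) := by
  rw [halg]; rfl

/-- The pairing of functions and sections from below. -/
def pairM (M : S.Modules) : Γ(U₀, ⊤) ⊗[Γ(S, V)] Γ(M, V) →+ Γ(Mo M v, (⊤ : U₀.Opens)) :=
  TensorProduct.liftAddHom
    (AddMonoidHom.mk' (fun c => AddMonoidHom.mk' (fun m => c • rs (Mo M v) eV (pull v M V m))
        fun m m' => by
          have : pull v M V (m + m') = pull v M V m + pull v M V m' :=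
            map_add (((Scheme.Modules.pullbackPushforwardAdjunction v).unit.app M).app V).hom m m'
          exact (congrArg (fun s => c • rs _ eV s) this).trans
            ((congrArg (c • ·) (map_add _ _ _)).trans (smul_add _ _ _)))
      fun c c' => by ext m; simp only [AddMonoidHom.mk'_apply, AddMonoidHom.add_apply, add_smul])
    fun a c m => by
      show (a • c) • rs (Mo M v) eV (pull v M V m) = c • rs (Mo M v) eV (pull v M V (a • m))
      rw [Algebra.smul_def, pull_smul, rs_smul, ← mul_smul, mul_comm, appLE_eq v eV alg halg]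

theorem pairM_tmul (M : S.Modules) (c : Γ(U₀, ⊤)) (m : Γ(M, V)) :
    pairM v eV alg halg M (c ⊗ₜ m) = c • rs (Mo M v) eV (pull v M V m) := rfl

theorem pairM_map {M N : S.Modules} (φ : M ⟶ N) (z : Γ(U₀, ⊤) ⊗[Γ(S, V)] Γ(M, V)) :
    ((Scheme.Modules.pullback v).map φ).app ⊤ (pairM v eV alg halg M z) =
      pairM v eV alg halg N ((secLin φ V).lTensor _ z) := by
  induction z using TensorProduct.induction_on with
  | zero => simp only [map_zero]
  | add x y hx hy => simp only [map_add, hx, hy]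
  | tmul c m =>
    rw [LinearMap.lTensor_tmul, pairM_tmul, pairM_tmul]
    refine (((Scheme.Modules.pullback v).map φ).app_smul _ _).trans ?_
    refine congrArg _ ?_
    rw [app_rs]
    exact congrArg _ (Groth.L17.CxTools.pull_app v φ V m)

theorem exists_pairM_res {U₁ : Scheme.{u}} (g : U₁ ⟶ U₀) (v₁ : U₁ ⟶ S) (hg : g ≫ v = v₁)
    (eV₁ : (⊤ : U₁.Opens) ≤ v₁ ⁻¹ᵁ V) (alg₁ : Algebra Γ(S, V) Γ(U₁, ⊤))
    (halg₁ : algebraMap Γ(S, V) Γ(U₁, ⊤) = (v₁.appLE V ⊤ eV₁).hom) (M : S.Modules)
    (z : Γ(U₀, ⊤) ⊗[Γ(S, V)] Γ(M, V)) :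
    ∃ z', pairM v₁ eV₁ alg₁ halg₁ M z' =
      R M g v v₁ hg (V := ⊤) (V' := ⊤) (top_le_pre g) (pairM v eV alg halg M z) := by
  induction z using TensorProduct.induction_on with
  | zero => exact ⟨0, by rw [map_zero, map_zero, R_zero]⟩
  | add x y hx hy =>
    obtain ⟨x', hx'⟩ := hx
    obtain ⟨y', hy'⟩ := hy
    exact ⟨x' + y', by rw [map_add, map_add, R_add, hx', hy']⟩
  | tmul c m =>
    refine ⟨g.appLE ⊤ ⊤ (top_le_pre g) c ⊗ₜ m, ?_⟩
    rw [pairM_tmul, pairM_tmul, R_smul, R_pull M g v v₁ hg m eV (top_le_pre g) eV₁]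

theorem surjective_pairM [IsAffine U₀] (M : S.Modules) [Coh.IsQCoh M] (hV : IsAffineOpen V) :
    Function.Surjective (pairM v eV alg halg M) := by
  have halg' : alg = (v.appLE V ⊤ eV).hom.toAlgebra := Algebra.algebra_ext _ _ fun a => DFunLike.congr_fun halg a
  subst halg'
  letI := (v.appLE V ⊤ eV).hom.toAlgebra
  letI : Module Γ(S, V) Γ((Scheme.Modules.pullback v).obj M, (⊤ : U₀.Opens)) :=
    Module.compHom _ (v.appLE V ⊤ eV).hom
  haveI : IsScalarTower Γ(S, V) Γ(U₀, ⊤) Γ((Scheme.Modules.pullback v).obj M, (⊤ : U₀.Opens)) :=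
    IsScalarTower.of_algebraMap_smul fun _ _ => rfl
  have hbc := Groth.L16.AffineBC.isBaseChange_pull v M hV (isAffineOpen_top U₀) eV
  have key : ∀ z, pairM v eV _ halg M z = hbc.equiv z := fun z => by
    induction z using TensorProduct.induction_on with
    | zero => simp only [map_zero]
    | add x y hx hy => simp only [map_add, hx, hy]
    | tmul c m => rw [pairM_tmul, IsBaseChange.equiv_tmul]; rfl
  intro y
  obtain ⟨z, hz⟩ := hbc.equiv.surjective y
  exact ⟨z, (key z).trans hz⟩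

variable {T : Scheme.{u}} (f : T ⟶ S)

/-- Sections of a direct image as sections upstairs. -/
def toA (N : T.Modules) (V : S.Opens) :
    Γ((Scheme.Modules.pushforward f).obj N, V) ≃ₗ[Γ(S, V)] SecA f N (le_refl (f ⁻¹ᵁ V)) where
  toFun s := s
  invFun s := s
  left_inv _ := rfl
  right_inv _ := rfl
  map_add' _ _ := rfl
  map_smul' a s := by
    show (f.app V).hom a • (show Γ(N, f ⁻¹ᵁ V) from s) =
      (f.appLE V (f ⁻¹ᵁ V) le_rfl).hom a • (show Γ(N, f ⁻¹ᵁ V) from s)
    rw [Scheme.Hom.app_eq_appLE]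

theorem toA_map {N N' : T.Modules} (φ : N ⟶ N') (V : S.Opens) :
    (secMap f φ (le_refl (f ⁻¹ᵁ V))).comp (toA f N V).toLinearMap =
      (toA f N' V).toLinearMap.comp (secLin ((Scheme.Modules.pushforward f).map φ) V) := rfl

theorem β_toA (A : T.Etale) (f' : A.left ⟶ U₀) (w : A.hom ≫ f = f' ≫ v) (N : T.Modules)
    (z : Γ(U₀, ⊤) ⊗[Γ(S, V)] Γ((Scheme.Modules.pushforward f).obj N, V)) :
    β f v A.hom f' w N eV alg halg (le_refl (f ⁻¹ᵁ V)) (pr f' A.hom (⊤ : U₀.Opens) (f ⁻¹ᵁ V))
        inf_le_left inf_le_right ((toA f N V).toLinearMap.lTensor _ z) =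
      rs (Mo N A.hom) le_top (bcT f v A.hom f' w N (pairM v eV alg halg _ z)) := by
  induction z using TensorProduct.induction_on with
  | zero => simp only [map_zero]
  | add x y hx hy => simp only [map_add, hx, hy]
  | tmul c m =>
    rw [LinearMap.lTensor_tmul, β_tmul, pairM_tmul, bcT_apply]
    refine Eq.trans ?_ (congrArg (fun y => rs (Mo N A.hom) le_top (rs (Mo N A.hom) (top_le_pre f') y))
      (Scheme.Modules.Hom.app_smul (bcG f v A.hom f' w N) c _)).symm
    rw [app_rs, bcG_pull, rs_push, rs_rs, rs_rs]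
    refine Eq.trans ?_ (congrArg (fun y => y) (rs_smul (Mo N A.hom) _ _ _).symm)
    refine congrArg₂ (· • ·) ?_ ?_
    · rfl
    · exact (rs_rs _ _ _ _).symm

end Pair

/-- The structure morphism, on the scheme. -/
abbrev hom' {S : Scheme.{u}} (C : S.Etale) : C.left ⟶ S := C.hom

section Main

variable {T S : Scheme.{u}} (f : T ⟶ S) {F : T.Modules} [Coh.IsQCoh F] (I : InjectiveResolution F)
  (J : InjectiveResolution (sh F)) (α : ∀ n, psh (I.cocomplex.X n) ⟶ (J.cocomplex.X n).obj)
  (hcomm : ∀ m n, pshMap (I.cocomplex.d m n) ≫ α n = α m ≫ (J.cocomplex.d m n).hom)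
  (haug : pshMap (I.ι.f 0) ≫ α 0 = (J.ι.f 0).hom)

section Small

variable [QuasiCompact f] [QuasiSeparated f] (C : S.Etale) [IsAffine C.left] {V : S.Opens} (hV : IsAffineOpen V)
  (eV : (⊤ : C.left.Opens) ≤ (hom' C) ⁻¹ᵁ V)

/-- The algebra structure over an affine open. -/
abbrev algC : Algebra Γ(S, V) Γ(C.left, ⊤) := ((hom' C).appLE V ⊤ eV).hom.toAlgebra

/-- The pairing into the presheaf. -/
def pairP (M : S.Modules) :
    letI := algC C eV
    Γ(C.left, ⊤) ⊗[Γ(S, V)] Γ(M, V) →+ (psh M).obj (op C) :=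
  letI := algC C eV
  (AddEquiv.ulift.symm : Sec M C ≃+ ULift.{u + 1} (Sec M C)).toAddMonoidHom.comp
    (pairM (hom' C) eV (algC C eV) rfl M)

theorem pairP_map {M N : S.Modules} (φ : M ⟶ N) :
    letI := algC C eV
    ∀ z : Γ(C.left, ⊤) ⊗[Γ(S, V)] Γ(M, V),
      (pshMap φ).app (op C) (pairP C eV M z) = pairP C eV N ((secLin φ V).lTensor _ z) :=
  fun z => ULift.ext _ _ (pairM_map (hom' C) eV (algC C eV) rfl φ z)

theorem restrict_φP (n : ℕ) :
    letI := algC C eV
    ∀ z : Γ(C.left, ⊤) ⊗[Γ(S, V)] Γ((Scheme.Modules.pushforward f).obj (I.cocomplex.X n), V),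
      (J.cocomplex.X n).obj.map (opnHom (bo f C) (pr (pf f C) (bo f C).hom (⊤ : C.left.Opens) (f ⁻¹ᵁ V))).op
          ((φP f I J α n).app (op C) (pairP C eV _ z)) =
        Tc f (hom' C) (bo f C) (pf f C) (bo_w f C) eV (algC C eV) rfl I J α le_rfl n
          ((toA f (I.cocomplex.X n) V).toLinearMap.lTensor _ z) := by
  intro z
  rw [φP_app, Tc_apply, β_toA, ← NatTrans.naturality_apply (α n), res_opnHom]
  rfl

variable (n : ℕ)

include hcomm haug hV in
/-- Local injectivity on small objects. -/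
theorem small_inj :
    letI := algC C eV
    ∀ z : Γ(C.left, ⊤) ⊗[Γ(S, V)] Γ((Scheme.Modules.pushforward f).obj (I.cocomplex.X n), V),
      (secLin ((Scheme.Modules.pushforward f).map (I.cocomplex.d n (n + 1))) V).lTensor _ z = 0 →
      ∀ y, (φP f I J α n).app (op C) (pairP C eV _ z) =
          (J.cocomplex.d ((ComplexShape.up ℕ).prev n) n).hom.app (op (bo f C)) y →
        ∃ x, (pshMap ((Scheme.Modules.pushforward f).map
            (I.cocomplex.d ((ComplexShape.up ℕ).prev n) n))).app (op C) x = pairP C eV _ z := by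
  letI := algC C eV
  haveI : Module.Flat Γ(S, V) Γ(C.left, ⊤) := (hom' C).flat_appLE hV (isAffineOpen_top _) eV
  intro z hz y hy
  obtain ⟨hQ1, -⟩ := qis_preimage f (hom' C) (bo f C) (pf f C) (bo_w f C) eV (algC C eV) rfl I J α hcomm haug
    (isPullback_bo f C) hV le_rfl n
  obtain ⟨x, hx⟩ := hQ1 ((toA f (I.cocomplex.X n) V).toLinearMap.lTensor _ z) (by
      rw [dB, ← LinearMap.comp_apply, ← LinearMap.lTensor_comp, toA_map, LinearMap.lTensor_comp,
        LinearMap.comp_apply, hz, map_zero])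
    ⟨(J.cocomplex.X _).obj.map (opnHom (bo f C) _).op y, by
      rw [← restrict_φP, hy]
      exact (NatTrans.naturality_apply (J.cocomplex.d _ n).hom _ y).symm⟩
  obtain ⟨x₁, rfl⟩ := (LinearEquiv.lTensor Γ(C.left, ⊤) (toA f (I.cocomplex.X _) V)).surjective x
  refine ⟨pairP C eV _ x₁, (pairP_map C eV _ x₁).trans (congrArg _ ?_)⟩
  refine (LinearEquiv.lTensor Γ(C.left, ⊤) (toA f (I.cocomplex.X n) V)).injective ?_
  refine Eq.trans ?_ hx.symm
  show (toA f (I.cocomplex.X n) V).toLinearMap.lTensor _ (LinearMap.lTensor _ _ x₁) =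
    (secMap f _ _).lTensor _ ((toA f (I.cocomplex.X _) V).toLinearMap.lTensor _ x₁)
  rw [← LinearMap.comp_apply, ← LinearMap.lTensor_comp, ← toA_map, LinearMap.lTensor_comp, LinearMap.comp_apply]

include hcomm haug hV eV in
/-- Surjectivity on small objects. -/
theorem small_surj (t : (J.cocomplex.X n).obj.obj (op (bo f C)))
    (ht : (J.cocomplex.d n (n + 1)).hom.app (op (bo f C)) t = 0) :
    ∃ z y, (pshMap ((Scheme.Modules.pushforward f).map (I.cocomplex.d n (n + 1)))).app (op C) z = 0 ∧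
      (show (J.cocomplex.X n).obj.obj (op (bo f C)) from (φP f I J α n).app (op C) z) +
        (J.cocomplex.d ((ComplexShape.up ℕ).prev n) n).hom.app (op (bo f C)) y = t := by
  letI := algC C eV
  haveI : Module.Flat Γ(S, V) Γ(C.left, ⊤) := (hom' C).flat_appLE hV (isAffineOpen_top _) eV
  obtain ⟨-, hQ2⟩ := qis_preimage f (hom' C) (bo f C) (pf f C) (bo_w f C) eV (algC C eV) rfl I J α hcomm haug
    (isPullback_bo f C) hV le_rfl n
  obtain ⟨z, y, hz, h⟩ := hQ2 ((J.cocomplex.X n).obj.map (opnHom (bo f C) _).op t)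
    ((NatTrans.naturality_apply (J.cocomplex.d n (n + 1)).hom _ t).trans
      ((congrArg _ ht).trans (map_zero _)))
  obtain ⟨z₁, rfl⟩ := (LinearEquiv.lTensor Γ(C.left, ⊤) (toA f (I.cocomplex.X n) V)).surjective z
  have hz₁ : (secLin ((Scheme.Modules.pushforward f).map (I.cocomplex.d n (n + 1))) V).lTensor _ z₁ = 0 := by
    refine (LinearEquiv.lTensor Γ(C.left, ⊤) (toA f (I.cocomplex.X (n + 1)) V)).injective ?_
    rw [map_zero]
    refine Eq.trans ?_ hz
    show (toA f (I.cocomplex.X (n + 1)) V).toLinearMap.lTensor _ (LinearMap.lTensor _ _ z₁) =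
      (secMap f _ _).lTensor _ ((toA f (I.cocomplex.X n) V).toLinearMap.lTensor _ z₁)
    rw [← LinearMap.comp_apply, ← LinearMap.lTensor_comp, ← toA_map, LinearMap.lTensor_comp, LinearMap.comp_apply]
  have hO : (⊤ : (bo f C).left.Opens) ≤ pr (pf f C) (bo f C).hom (⊤ : C.left.Opens) (f ⁻¹ᵁ V) := fun x _ =>
    ⟨pre_le f (hom' C) (bo f C).hom (pf f C) (bo_w f C) V (eV (trivial : pf f C x ∈ (⊤ : C.left.Opens))), trivial⟩
  refine ⟨pairP C eV _ z₁, (J.cocomplex.X _).obj.map (topI (bo f C) hO).op y,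
    (pairP_map C eV _ z₁).trans ((congrArg _ hz₁).trans (map_zero _)), ?_⟩
  have hid : ∀ (m : ℕ) (a : (J.cocomplex.X m).obj.obj (op (bo f C))),
      (J.cocomplex.X m).obj.map (topI (bo f C) hO).op ((J.cocomplex.X m).obj.map (opnHom (bo f C) _).op a) = a :=
    fun m a => by rw [map_map_apply, topI_opnHom, map_id_apply']
  have h' := congrArg ((J.cocomplex.X n).obj.map (topI (bo f C) hO).op) h
  rw [hid] at h'
  refine Eq.trans ?_ h'.symm
  rw [map_add]
  refine congrArg₂ (· + ·) ?_ ?_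
  · refine (hid n _).symm.trans (congrArg _ ?_)
    exact restrict_φP f I J α C eV n z₁
  · exact NatTrans.naturality_apply (J.cocomplex.d _ n).hom _ y

end Small

include hcomm haug in
/-- Local injectivity on presheaves of sections. -/
theorem loc_inj [QuasiCompact f] [QuasiSeparated f] [HasInjectiveResolutions T.Modules] (n : ℕ) (A : S.Etale)
    (z : (psh ((Groth.L17.CxIso.cC f I).X n)).obj (op A))
    (hz : (pshMap ((Groth.L17.CxIso.cC f I).d n (n + 1))).app (op A) z = 0)
    (y : (J.cocomplex.X ((ComplexShape.up ℕ).prev n)).obj.obj (op (bo f A)))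
    (hy : (φP f I J α n).app (op A) z =
      (J.cocomplex.d ((ComplexShape.up ℕ).prev n) n).hom.app (op (bo f A)) y) :
    Loc A fun B g => ∃ x, (pshMap ((Groth.L17.CxIso.cC f I).d ((ComplexShape.up ℕ).prev n) n)).app (op B) x =
      (psh ((Groth.L17.CxIso.cC f I).X n)).map g.op z := by
  refine loc_small fun B g ⟨hB, V, hV, eV⟩ => ?_
  haveI := hB
  let K := Groth.L17.CxIso.cC f I
  let p := (ComplexShape.up ℕ).prev n
  have hp : p = (ComplexShape.up ℕ).prev n := rfl
  letI := algC B eV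
  haveI := Groth.L17.CxIso.isQCoh_homology f I n
  let z' := (psh (K.X n)).map g.op z
  have hz' : (pshMap (K.d n (n + 1))).app (op B) z' = 0 :=
    (NatTrans.naturality_apply (pshMap (K.d n (n + 1))) g.op z).trans ((congrArg _ hz).trans (map_zero _))
  haveI : Mono (ShortComplex.mk _ _ (K.iCycles_d n (n + 1))).f := inferInstanceAs (Mono (K.iCycles n))
  obtain ⟨ζ, hζ⟩ := exists_psh_lift (T := ShortComplex.mk _ _ (K.iCycles_d n (n + 1)))
    (ShortComplex.exact_of_f_is_kernel _ (K.cyclesIsKernel n (n + 1) (by simp))) B z' hz'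
  obtain ⟨h₁, hh₁⟩ := surjective_pairM (hom' B) eV (algC B eV) rfl (K.homology n) hV
    ((pshMap (K.homologyπ n)).app (op B) ζ).down
  have hsurj : Function.Surjective (secLin (K.homologyπ n) V) := fun h =>
    let ⟨s, c, hc, hc'⟩ := (Groth.L17.CxTools.classes_affine hV K
      (fun m => haveI := I.injective m; Groth.L17.CohSections.acyclic_push_injective f V (I.cocomplex.X m))
      (Groth.L17.CxIso.isQCoh_homology f I) n).1 h
    ⟨c, hc'⟩
  obtain ⟨w, hw⟩ := LinearMap.lTensor_surjective Γ(B.left, ⊤) hsurj h₁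
  let ξ := ζ - pairP B eV (K.cycles n) w
  have hξ : (pshMap (K.homologyπ n)).app (op B) ξ = 0 := by
    rw [map_sub, sub_eq_zero, pairP_map, hw]
    exact ULift.ext _ _ hh₁.symm
  have hex : (ShortComplex.mk _ _ (K.toCycles_comp_homologyπ p n)).Exact :=
    ShortComplex.exact_of_g_is_cokernel _ (K.homologyIsCokernel p n hp.symm)
  refine Loc.bind (loc_psh_exact hex B ξ hξ) fun D l ⟨a, ha⟩ => ?_
  intro x₀
  obtain ⟨_, ⟨O, hO, rfl⟩, hxO, -⟩ :=
    D.left.isBasis_affineOpens.exists_subset_of_mem_open (Set.mem_univ x₀) isOpen_univ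
  refine ⟨opn D O, opnHom D O, ⟨x₀, hxO⟩, rfl, ?_⟩
  let C := opn D O
  let k : C ⟶ B := opnHom D O ≫ l
  haveI : IsAffine C.left := hO
  have eC : (⊤ : C.left.Opens) ≤ (hom' C) ⁻¹ᵁ V := fun q _ => by
    show hom' C q ∈ V
    rw [show hom' C = k.left ≫ hom' B from (MorphismProperty.Over.w k).symm]
    exact eV (trivial : k.left q ∈ (⊤ : B.left.Opens))
  obtain ⟨w', hw'⟩ := exists_pairM_res (hom' B) eV (algC B eV) rfl k.left (hom' C) (MorphismProperty.Over.w k) eC
    (algC C eC) rfl (K.cycles n) w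
  letI := algC C eC
  have hw'' : pairP C eC (K.cycles n) w' = (psh (K.cycles n)).map k.op (pairP B eV (K.cycles n) w) :=
    ULift.ext _ _ hw'
  let a' := (psh (K.X p)).map (opnHom D O).op a
  have ha' : (pshMap (K.toCycles p n)).app (op C) a' = (psh (K.cycles n)).map k.op ξ :=
    (NatTrans.naturality_apply (pshMap (K.toCycles p n)) (opnHom D O).op a).trans
      ((congrArg _ ha).trans (map_map_apply l (opnHom D O) ξ))
  let z₁ := (secLin (K.iCycles n) V).lTensor Γ(C.left, ⊤) w'
  have hsplit : (psh (K.X n)).map k.op z' =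
      (pshMap (K.d p n)).app (op C) a' + pairP C eC (K.X n) z₁ := by
    have e1 : (pshMap (K.iCycles n)).app (op C) ((psh (K.cycles n)).map k.op ζ) = (psh (K.X n)).map k.op z' :=
      (NatTrans.naturality_apply (pshMap (K.iCycles n)) k.op ζ).trans (congrArg _ hζ)
    have e2 : (psh (K.cycles n)).map k.op ζ =
        (pshMap (K.toCycles p n)).app (op C) a' + pairP C eC (K.cycles n) w' := by
      rw [ha', hw'']
      show _ = (psh (K.cycles n)).map k.op (ζ - _) + _
      rw [map_sub, sub_add_cancel]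
    rw [← e1, e2, map_add, pairP_map]
    refine congrArg (· + _) ?_
    refine Eq.trans ?_ (congr($(congrArg (fun m => (pshMap m).app (op C)) (K.toCycles_i p n)) a'))
    exact (congr($(congrArg (fun m => NatTrans.app m (op C))
      ((PshF S).map_comp (K.toCycles p n) (K.iCycles n))) a')).symm
  have hz₁ : (secLin (K.d n (n + 1)) V).lTensor Γ(C.left, ⊤) z₁ = 0 := by
    rw [← LinearMap.comp_apply, ← LinearMap.lTensor_comp, secLin_comp, K.iCycles_d, secLin_zero,
      LinearMap.lTensor_zero]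
    rfl
  obtain ⟨x, hx⟩ := small_inj f I J α hcomm haug C hV eC n z₁ hz₁
    ((J.cocomplex.X p).obj.map ((EtCoh.bc f).map (k ≫ g)).op y -
      (show (J.cocomplex.X p).obj.obj (op (bo f C)) from (φP f I J α p).app (op C) a')) (by
      have h1 : (φP f I J α n).app (op C) ((pshMap (K.d p n)).app (op C) a') =
          (J.cocomplex.d p n).hom.app (op (bo f C)) ((φP f I J α p).app (op C) a') :=
        congr($(congrArg (fun m => NatTrans.app m (op C)) (φP_comm f I J α hcomm p n)) a')
      have h2 : (φP f I J α n).app (op C) ((psh (K.X n)).map k.op z') =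
          (J.cocomplex.d p n).hom.app (op (bo f C)) ((J.cocomplex.X p).obj.map ((EtCoh.bc f).map (k ≫ g)).op y) := by
        rw [map_map_apply]
        refine (NatTrans.naturality_apply (φP f I J α n) (k ≫ g).op z).trans ?_
        refine (congrArg _ hy).trans ?_
        exact (NatTrans.naturality_apply (J.cocomplex.d p n).hom ((EtCoh.bc f).map (k ≫ g)).op y).symm
      rw [hsplit, map_add, h1] at h2
      rw [map_sub]
      exact eq_sub_of_add_eq' h2)
  refine ⟨a' + (show (psh (K.X p)).obj (op C) from x), ?_⟩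
  rw [map_add, show (pshMap (K.d p n)).app (op C) x = pairP C eC (K.X n) z₁ from hx, ← hsplit, map_map_apply]

variable [QuasiCompact f] [QuasiSeparated f] [HasInjectiveResolutions T.Modules]

include haug in
theorem isIso_homologyMap (n : ℕ) : IsIso (HomologicalComplex.homologyMap (Φ f I J α hcomm) n) := by
  let K := Groth.L17.CxIso.cC f I
  refine isIso_homologyMap_of_loc _ n (fun A z hz y hy => ?_) fun A t ht => ?_
  · refine Loc.bind (loc_toSheafify_surjective _ A z) fun B g ⟨z₀, hz₀⟩ => ?_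
    have hz₀' : ((W S).map (K.d n (n + 1))).hom.app (op B) ((ηW (K.X n)).app (op B) z₀) = 0 :=
      (congrArg _ hz₀).trans ((NatTrans.naturality_apply ((W S).map (K.d n (n + 1))).hom g.op z).trans
        ((congrArg _ hz).trans (map_zero _)))
    rw [W_map_η] at hz₀'
    refine Loc.bind (loc_toSheafify_injective _ B _ hz₀') fun C k hk => ?_
    have hd : (pshMap (K.d n (n + 1))).app (op C) ((psh (K.X n)).map k.op z₀) = 0 :=
      (NatTrans.naturality_apply (pshMap (K.d n (n + 1))) k.op z₀).trans hk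
    refine (loc_inj f I J α hcomm haug n C _ hd
      ((J.cocomplex.X _).obj.map ((EtCoh.bc f).map (k ≫ g)).op y) ?_).mono fun D l ⟨x, hx⟩ => ?_
    · refine (Φ_η f I J α hcomm n C _).symm.trans ?_
      refine (congrArg _ ((NatTrans.naturality_apply (ηW (K.X n)) k.op z₀).trans
        ((congrArg _ hz₀).trans (map_map_apply g k z)))).trans ?_
      refine (NatTrans.naturality_apply ((Φ f I J α hcomm).f n).hom (k ≫ g).op z).trans ?_
      refine (congrArg _ hy).trans ?_
      exact (NatTrans.naturality_apply (J.cocomplex.d _ n).hom ((EtCoh.bc f).map (k ≫ g)).op y).symm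
    · refine ⟨(ηW (K.X _)).app (op D) x, (W_map_η _ D x).trans ?_⟩
      rw [hx, NatTrans.naturality_apply (ηW (K.X n)) l.op, NatTrans.naturality_apply (ηW (K.X n)) k.op]
      refine (congrArg _ (congrArg _ hz₀)).trans ?_
      refine (congrArg _ (map_map_apply g k z)).trans ?_
      exact (map_map_apply (k ≫ g) l z).trans (by rw [Category.assoc])
  · refine loc_small fun B g ⟨hB, V, hV, eV⟩ => loc_self ?_
    haveI := hB
    obtain ⟨z, y, hz, h⟩ := small_surj f I J α hcomm haug B hV eV n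
      ((J.cocomplex.X n).obj.map ((EtCoh.bc f).map g).op t)
      ((NatTrans.naturality_apply (J.cocomplex.d n (n + 1)).hom ((EtCoh.bc f).map g).op t).trans
        ((congrArg _ ht).trans (map_zero _)))
    refine ⟨(ηW (K.X n)).app (op B) z, y, (W_map_η _ B z).trans ((congrArg _ hz).trans (map_zero _)), ?_⟩
    rw [Category.id_comp]
    exact (congrArg (fun a : (J.cocomplex.X n).obj.obj (op (bo f B)) => a + _) (Φ_η f I J α hcomm n B z)).trans h

/-- The etale higher direct image of the sheaf of a quasi-coherent module. -/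
theorem nonempty_Rpush_iso (i : ℕ) (G : EtCoh.Ab T) (hG : EtAssoc.IsAssoc F G) (G' : EtCoh.Ab S)
    (hG' : EtAssoc.IsAssoc ((Coh.Rpush f i).obj F) G') : Nonempty ((EtCoh.Rpush f i).obj G ≅ G') := by
  haveI : Coh.IsQCoh ((Coh.Rpush f i).obj F) := Groth.L17.PushQCoh.isQCoh_Rpush f F i
  obtain ⟨eG⟩ := nonempty_iso_sh F hG
  obtain ⟨eG'⟩ := nonempty_iso_sh _ hG'
  obtain ⟨I₀⟩ : Nonempty (InjectiveResolution F) := HasInjectiveResolution.out
  obtain ⟨J₀⟩ : Nonempty (InjectiveResolution (sh F)) := HasInjectiveResolution.out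
  obtain ⟨α₀, hc, ha⟩ := exists_alpha I₀ J₀
  haveI := isIso_homologyMap f I₀ J₀ α₀ hc ha i
  haveI := preservesHomology_W (X := S)
  let e₁ : (((W S).mapHomologicalComplex (ComplexShape.up ℕ)).obj (Groth.L17.CxIso.cC f I₀)).homology i ≅
      (W S).obj ((Groth.L17.CxIso.cC f I₀).homology i) :=
    ((Groth.L17.CxIso.cC f I₀).sc i).mapHomologyIso (W S)
  let e₂ : (W S).obj ((Coh.Rpush f i).obj F) ≅ sh ((Coh.Rpush f i).obj F) :=
    asIso ((sheafificationAdjunction S.smallEtaleTopology AddCommGrpCat.{u + 1}).counit.app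
      (sh ((Coh.Rpush f i).obj F)))
  exact ⟨(EtCoh.Rpush f i).mapIso eG ≪≫ J₀.isoRightDerivedObj (EtCoh.push f) i ≪≫
    (asIso (HomologicalComplex.homologyMap (Φ f I₀ J₀ α₀ hc) i)).symm ≪≫ e₁ ≪≫
    (W S).mapIso (I₀.isoRightDerivedObj (Scheme.Modules.pushforward f) i).symm ≪≫ e₂ ≪≫ eG'.symm⟩

end Main

end Groth.L23.EtRpush
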