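import Groth.Agent.L27.Assoc.Main
import Groth.Agent.L17.FlatBase.CxTheta
import Mathlib.AlgebraicGeometry.Morphisms.Etale

/-! # Presheaves of sections of pullbacks of arbitrary modules on the small etale site -/

universe u

open CategoryTheory CategoryTheory.Limits AlgebraicGeometry TopologicalSpace Opposite

set_option autoImplicit false
set_option linter.style.haveILetI false
set_option linter.unusedSectionVars false
set_option linter.unusedVariables false
set_option backward.isDefEq.respectTransparency false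
set_option backward.isDefEq.respectTransparency.types false

noncomputable section

namespace Groth.L23.EtRpush

open Groth.L27.Assoc
open Groth.L18.Frame (rs rs_rs rs_self pull pull_rs rs_smul)
open Groth.L17.DegZero (app_rs)

variable {S : Scheme.{u}}

/-- Restriction of sections of pullbacks is natural in the module. -/
theorem R_map {M N : S.Modules} (φ : M ⟶ N) {U U' : Scheme.{u}} (g : U' ⟶ U) (v : U ⟶ S) (v' : U' ⟶ S)
    (w : g ≫ v = v') {V : U.Opens} {V' : U'.Opens} (e : V' ≤ g ⁻¹ᵁ V) (s : Γ(Mo M v, V)) :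
    R N g v v' w e (((Scheme.Modules.pullback v).map φ).app V s) =
      ((Scheme.Modules.pullback v').map φ).app V' (R M g v v' w e s) := by
  have hn : (Scheme.Modules.pullback g).map ((Scheme.Modules.pullback v).map φ) ≫ θ N g v v' w =
      θ M g v v' w ≫ (Scheme.Modules.pullback v').map φ := by
    simp only [θ, Category.assoc]
    erw [reassoc_of% (Scheme.Modules.pullbackComp g v).hom.naturality φ,
      (Scheme.Modules.pullbackCongr w).hom.naturality φ]
  unfold R
  rw [← Groth.L17.CxTools.pull_app g ((Scheme.Modules.pullback v).map φ) V s, ← app_rs]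
  exact congr($(congrArg (fun k => Scheme.Modules.Hom.app k V') hn) _)

/-- The map of presheaves of sections. -/
def pshMap {M N : S.Modules} (φ : M ⟶ N) : psh M ⟶ psh N where
  app A := AddCommGrpCat.ofHom (AddMonoidHom.mk'
    (fun s => ⟨((Scheme.Modules.pullback A.unop.hom).map φ).app ⊤ s.down⟩)
    (fun s t => ULift.ext _ _ (map_add (((Scheme.Modules.pullback A.unop.hom).map φ).app ⊤).hom s.down t.down)))
  naturality A B g := by
    ext s
    exact ULift.ext _ _ (R_map φ g.unop.left A.unop.hom B.unop.hom (MorphismProperty.Over.w g.unop) (V := ⊤)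
      (V' := ⊤) le_top s.down).symm

theorem pshMap_app {M N : S.Modules} (φ : M ⟶ N) (A : S.Etale) (s : (psh M).obj (op A)) :
    ((pshMap φ).app (op A) s).down = ((Scheme.Modules.pullback A.hom).map φ).app ⊤ s.down := rfl

/-- The functor of presheaves of sections. -/
def PshF (S : Scheme.{u}) : S.Modules ⥤ (S.Etaleᵒᵖ ⥤ AddCommGrpCat.{u + 1}) where
  obj M := psh M
  map φ := pshMap φ
  map_id M := by
    ext A s
    refine ULift.ext _ _ ?_
    exact congr($(congrArg (fun k => Scheme.Modules.Hom.app k ⊤)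
      ((Scheme.Modules.pullback A.unop.hom).map_id M)) s.down)
  map_comp φ ψ := by
    ext A s
    refine ULift.ext _ _ ?_
    exact congr($(congrArg (fun k => Scheme.Modules.Hom.app k ⊤)
      ((Scheme.Modules.pullback A.unop.hom).map_comp φ ψ)) s.down)

instance additive_PshF : (PshF S).Additive where
  map_add {M N φ ψ} := by
    ext A s
    refine ULift.ext _ _ ?_
    haveI := Groth.L17.CxTools.additive_pullback A.unop.hom
    exact congr($(congrArg (fun k => Scheme.Modules.Hom.app k ⊤)
      ((Scheme.Modules.pullback A.unop.hom).map_add (f := φ) (g := ψ))) s.down)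

/-- Locally on an etale scheme. -/
def Loc (A : S.Etale) (P : ∀ B : S.Etale, (B ⟶ A) → Prop) : Prop :=
  ∀ x : A.left, ∃ (B : S.Etale) (g : B ⟶ A) (b : B.left), g.left.base b = x ∧ P B g

theorem Loc.mono {A : S.Etale} {P Q : ∀ B : S.Etale, (B ⟶ A) → Prop} (h : Loc A P)
    (hPQ : ∀ B g, P B g → Q B g) : Loc A Q := fun x =>
  let ⟨B, g, b, hb, hP⟩ := h x
  ⟨B, g, b, hb, hPQ B g hP⟩

theorem loc_self {A : S.Etale} {P : ∀ B : S.Etale, (B ⟶ A) → Prop} (h : P A (𝟙 A)) : Loc A P :=
  fun x => ⟨A, 𝟙 A, x, rfl, h⟩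

theorem Loc.bind {A : S.Etale} {P Q : ∀ B : S.Etale, (B ⟶ A) → Prop} (h : Loc A P)
    (hPQ : ∀ B g, P B g → Loc B fun C k => Q C (k ≫ g)) : Loc A Q := fun x => by
  obtain ⟨B, g, b, hb, hP⟩ := h x
  obtain ⟨C, k, c, hc, hQ⟩ := hPQ B g hP b
  refine ⟨C, k ≫ g, c, ?_, hQ⟩
  rw [← hb, ← hc]
  rfl

theorem loc_mem {A : S.Etale} (R : Sieve A) : R ∈ S.smallEtaleTopology A ↔ Loc A fun _ g => R g := by
  rw [Groth.L27.EtSite.mem_topology_iff]
  exact forall_congr' fun x => exists_congr fun B => exists_congr fun g => exists_congr fun b => and_comm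

/-- Etale schemes with affine source lying over an affine open of the base. -/
def Small (A : S.Etale) : Prop :=
  IsAffine A.left ∧ ∃ V : S.Opens, IsAffineOpen V ∧ (⊤ : A.left.Opens) ≤ A.hom ⁻¹ᵁ V

/-- Refinement by small etale schemes. -/
theorem exists_small_nhd (A : S.Etale) (x : A.left) :
    ∃ (B : S.Etale) (g : B ⟶ A) (b : B.left), g.left.base b = x ∧ Small B := by
  obtain ⟨_, ⟨V, hV, rfl⟩, hxV, -⟩ :=
    S.isBasis_affineOpens.exists_subset_of_mem_open (Set.mem_univ (A.hom x)) isOpen_univ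
  obtain ⟨_, ⟨O, hO, rfl⟩, hxO, hOV⟩ :=
    A.left.isBasis_affineOpens.exists_subset_of_mem_open (show x ∈ A.hom ⁻¹ᵁ V from hxV) (A.hom ⁻¹ᵁ V).2
  exact ⟨opn A O, opnHom A O, ⟨x, hxO⟩, rfl, hO, V, hV, fun y _ => hOV y.2⟩

theorem loc_small {A : S.Etale} {P : ∀ B : S.Etale, (B ⟶ A) → Prop}
    (h : ∀ B g, Small B → Loc B fun C k => P C (k ≫ g)) : Loc A P :=
  Loc.bind (P := fun B _ => Small B) (fun x => exists_small_nhd A x) h

section Opn

variable (N : S.Modules) (A : S.Etale)

/-- Sections over an open as sections over the open subobject. -/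
def κ (O : A.left.Opens) : Γ(Mo N A.hom, O) →+ (psh N).obj (op (opn A O)) :=
  AddMonoidHom.mk' (fun s => ULift.up (R N O.ι A.hom (opn A O).hom rfl (V' := ⊤) (fun z _ => z.2) s))
    (fun s t => ULift.ext _ _ (R_add N O.ι A.hom (opn A O).hom rfl _ s t))

theorem κ_down (O : A.left.Opens) (s : Γ(Mo N A.hom, O)) :
    (κ N A O s).down = R N O.ι A.hom (opn A O).hom rfl (V' := ⊤) (fun z _ => z.2) s := rfl

theorem bijective_κ (O : A.left.Opens) : Function.Bijective (κ N A O) :=
  ⟨fun a b h => (bijective_opn N A O).1 (congrArg ULift.down h),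
    fun y => let ⟨s, hs⟩ := (bijective_opn N A O).2 y.down; ⟨s, ULift.ext _ _ hs⟩⟩

/-- Inclusions of open subobjects. -/
def opnLE {O O' : A.left.Opens} (h : O' ≤ O) : opn A O' ⟶ opn A O :=
  MorphismProperty.Over.homMk (A.left.homOfLE h) (by
    show A.left.homOfLE h ≫ O.ι ≫ A.hom = O'.ι ≫ A.hom
    rw [Scheme.homOfLE_ι_assoc])

theorem opnLE_hom {O O' : A.left.Opens} (h : O' ≤ O) : opnLE A h ≫ opnHom A O = opnHom A O' :=
  MorphismProperty.Over.Hom.ext (A.left.homOfLE_ι h)

theorem opnLE_comp {O O' O'' : A.left.Opens} (h : O' ≤ O) (h' : O'' ≤ O') :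
    opnLE A h' ≫ opnLE A h = opnLE A (h'.trans h) :=
  MorphismProperty.Over.Hom.ext (A.left.homOfLE_homOfLE h' h)

theorem opnLE_refl (O : A.left.Opens) : opnLE A (le_refl O) = 𝟙 _ :=
  MorphismProperty.Over.Hom.ext (A.left.homOfLE_rfl O)

instance mono_opnHom (O : A.left.Opens) : Mono (opnHom A O) :=
  ⟨fun a b h => MorphismProperty.Over.Hom.ext
    ((cancel_mono O.ι).1 (congrArg (fun k : _ ⟶ A => k.left) h))⟩

instance mono_opnLE {O O' : A.left.Opens} (h : O' ≤ O) : Mono (opnLE A h) :=
  haveI : Mono (opnLE A h ≫ opnHom A O) := by rw [opnLE_hom]; infer_instance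
  mono_of_mono (opnLE A h) (opnHom A O)

/-- The inverse of the inclusion of the whole. -/
def topI {O : A.left.Opens} (h : (⊤ : A.left.Opens) ≤ O) : A ⟶ opn A O :=
  MorphismProperty.Over.homMk (IsOpenImmersion.lift O.ι (𝟙 _) (by
    rintro _ ⟨z, rfl⟩
    exact ⟨⟨z, h trivial⟩, rfl⟩)) (by
    show _ ≫ O.ι ≫ A.hom = A.hom
    exact (IsOpenImmersion.lift_fac_assoc _ _ _ _).trans (Category.id_comp _))

theorem topI_opnHom {O : A.left.Opens} (h : (⊤ : A.left.Opens) ≤ O) : topI A h ≫ opnHom A O = 𝟙 A :=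
  MorphismProperty.Over.Hom.ext (IsOpenImmersion.lift_fac _ _ _)

theorem κ_res {O O' : A.left.Opens} (h : O' ≤ O) (s : Γ(Mo N A.hom, O)) :
    κ N A O' (rs _ h s) = (psh N).map (opnLE A h).op (κ N A O s) := by
  refine ULift.ext _ _ ?_
  rw [κ_down, psh_map, κ_down, res_apply]
  refine Eq.trans ?_ (R_comp N O.ι A.hom (opn A O).hom rfl (opnLE A h).left (opn A O').hom
    (MorphismProperty.Over.w (opnLE A h))
    ((Category.assoc _ _ _).trans (MorphismProperty.Over.w (opnLE A h)))
    (fun z _ => z.2) le_top (fun z _ => ((opnLE A h).left z).2) s).symm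
  refine Eq.trans ?_ (R_congr N A.hom (opn A O').hom (A.left.homOfLE_ι h).symm rfl _
    (fun z _ => h z.2) _ s)
  refine (R_rs N O'.ι A.hom (opn A O').hom rfl h (le_rfl : (⊤ : O'.toScheme.Opens) ≤ ⊤)
    (fun z _ => h z.2) (fun z _ => z.2) s).trans ?_
  exact rs_self _ _ _

theorem res_opnHom (O : A.left.Opens) (s : (psh N).obj (op A)) :
    (psh N).map (opnHom A O).op s = κ N A O (rs _ le_top s.down) := by
  refine ULift.ext _ _ ?_
  exact res_eq_R N (opnHom A O) (V := O) (fun z _ => z.2) s.down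

theorem κ_map {M N : S.Modules} (φ : M ⟶ N) (O : A.left.Opens) (s : Γ(Mo M A.hom, O)) :
    κ N A O (((Scheme.Modules.pullback A.hom).map φ).app O s) = (pshMap φ).app _ (κ M A O s) :=
  ULift.ext _ _ (R_map φ O.ι A.hom (opn A O).hom rfl _ s)

end Opn

section Exact

/-- Sections killed by the second map of an exact sequence locally come from the first. -/
theorem exists_local_lift_modules {X : Scheme.{u}} {T : ShortComplex X.Modules} (hT : T.Exact) (U : X.Opens)
    (s : Γ(T.X₂, U)) (hs : T.g.app U s = 0) (p : X) (hp : p ∈ U) :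
    ∃ (V : X.Opens) (hV : V ≤ U), p ∈ V ∧ ∃ a, T.f.app V a = rs T.X₂ hV s := by
  have h := (ShortComplex.ab_exact_iff _).1 ((Groth.L21.Mod.exact_iff_stalk T).1 hT p)
  obtain ⟨a, ha⟩ := h (T.X₂.presheaf.germ U p hp s)
    ((Groth.L21.Mod.stalkF_map_germ T.g U p hp s).trans (by rw [hs]; exact map_zero _))
  obtain ⟨W, hW, a', rfl⟩ := TopCat.Presheaf.exists_germ_eq (F := T.X₁.presheaf) (x := p) a
  have ha' : T.X₂.presheaf.germ W p hW (T.f.app W a') = T.X₂.presheaf.germ U p hp s :=
    (Groth.L21.Mod.stalkF_map_germ T.f W p hW a').symm.trans ha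
  obtain ⟨V, hpV, i₁, i₂, e⟩ := TopCat.Presheaf.germ_eq T.X₂.presheaf p hW hp (T.f.app W a') s ha'
  exact ⟨V, i₂.le, hpV, rs T.X₁ i₁.le a', (app_rs T.f i₁.le a').trans e⟩

instance flat_hom (A : S.Etale) : Flat A.hom :=
  haveI : AlgebraicGeometry.Etale A.hom := A.prop
  inferInstance

theorem preservesHomology_pullback (A : S.Etale) :
    haveI := Groth.L17.CxTools.additive_pullback A.hom
    (Scheme.Modules.pullback A.hom).PreservesHomology :=
  haveI := Groth.L17.CxTools.additive_pullback A.hom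
  haveI := Groth.L17.CxTools.preservesFiniteColimits_pullback A.hom
  haveI := Groth.L17.CxTools.preservesFiniteLimits_pullback A.hom
  inferInstance

/-- Exact sequences of modules give locally exact sequences of presheaves. -/
theorem loc_psh_exact {T : ShortComplex S.Modules} (hT : T.Exact) (A : S.Etale) (s : (psh T.X₂).obj (op A))
    (hs : (pshMap T.g).app (op A) s = 0) :
    Loc A fun B g => ∃ a, (pshMap T.f).app (op B) a = (psh T.X₂).map g.op s := by
  haveI := Groth.L17.CxTools.additive_pullback A.hom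
  haveI := preservesHomology_pullback A
  intro x
  obtain ⟨V, hV, hxV, a, ha⟩ := exists_local_lift_modules (hT.map (Scheme.Modules.pullback A.hom)) ⊤ s.down
    (congrArg ULift.down hs) x trivial
  refine ⟨opn A V, opnHom A V, ⟨x, hxV⟩, rfl, κ T.X₁ A V a, ?_⟩
  rw [← κ_map, res_opnHom]
  exact congrArg (κ T.X₂ A V) ha

/-- Presheaves of sections are left exact. -/
theorem exists_psh_lift {T : ShortComplex S.Modules} (hT : T.Exact) [Mono T.f] (A : S.Etale)
    (s : (psh T.X₂).obj (op A)) (hs : (pshMap T.g).app (op A) s = 0) :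
    ∃ a, (pshMap T.f).app (op A) a = s := by
  haveI := Groth.L17.CxTools.additive_pullback A.hom
  haveI := preservesHomology_pullback A
  haveI := Groth.L17.CxTools.preservesFiniteLimits_pullback A.hom
  obtain ⟨a, ha⟩ := Groth.L17.CxTheta.exists_lift_of_exact ((Scheme.Modules.pullback A.hom).map T.f)
    ((Scheme.Modules.pullback A.hom).map T.g) _ (hT.map (Scheme.Modules.pullback A.hom)) ⊤ s.down
    (congrArg ULift.down hs)
  exact ⟨ULift.up a, ULift.ext _ _ ha⟩

end Exact

end Groth.L23.EtRpush
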