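import Groth.Agent.L23.EtRpush.Comparison

/-!
The base change of the complex of sections of an injective resolution of a module computes the sections of an
injective resolution of its etale sheaf.
-/

universe u

open CategoryTheory CategoryTheory.Limits AlgebraicGeometry TopologicalSpace Opposite
open scoped TensorProduct

set_option autoImplicit false
set_option linter.style.haveILetI false
set_option linter.unusedSectionVars false
set_option linter.unusedVariables false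
set_option backward.isDefEq.respectTransparency false
set_option backward.isDefEq.respectTransparency.types false

noncomputable section

namespace Groth.L23.EtRpush

open Groth.L27.Assoc
open Groth.L18.Frame (rs pull rs_rs rs_self)
open Groth.L17.DegZero (SecA resA β β_res β_tmul good_affine app_rs)
open Groth.L17.CxTheta (secMap secMap_comp β_map pr pr_mono dB dB_res dB_dB eq_of_res exists_glue exists_ext)

attribute [local instance] Groth.L17.CxTools.additive_pullback Groth.L17.CxTools.preservesFiniteColimits_pullback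

section Sections

variable {T : Scheme.{u}} {F : T.Modules} [Coh.IsQCoh F] (A : T.Etale) (J : InjectiveResolution (sh F))

/-- Sections of the resolution over an open of an etale scheme. -/
abbrev JS (n : ℕ) (O : A.left.Opens) : Type (u + 1) := (J.cocomplex.X n).obj.obj (op (opn A O))

/-- Restriction of sections of the resolution. -/
def jr {n : ℕ} {O O' : A.left.Opens} (h : O' ≤ O) : JS A J n O →+ JS A J n O' :=
  ((J.cocomplex.X n).obj.map (opnLE A h).op).hom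

/-- The differential on sections. -/
def jd (m n : ℕ) (O : A.left.Opens) : JS A J m O →+ JS A J n O :=
  ((J.cocomplex.d m n).hom.app (op (opn A O))).hom

theorem jr_jr {n : ℕ} {O O' O'' : A.left.Opens} (h : O' ≤ O) (h' : O'' ≤ O') (s : JS A J n O) :
    jr A J h' (jr A J h s) = jr A J (h'.trans h) s :=
  (map_map_apply (opnLE A h) (opnLE A h') s).trans (by rw [opnLE_comp]; rfl)

theorem jr_self {n : ℕ} {O : A.left.Opens} (h : O ≤ O) (s : JS A J n O) : jr A J h s = s := by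
  show (J.cocomplex.X n).obj.map (opnLE A h).op s = s
  rw [opnLE_refl]
  exact map_id_apply' s

theorem jd_jr {m n : ℕ} {O O' : A.left.Opens} (h : O' ≤ O) (s : JS A J m O) :
    jr A J h (jd A J m n O s) = jd A J m n O' (jr A J h s) :=
  (NatTrans.naturality_apply (J.cocomplex.d m n).hom (opnLE A h).op s).symm

theorem jd_jd (O : A.left.Opens) (l m n : ℕ) (y : JS A J l O) : jd A J m n O (jd A J l m O y) = 0 :=
  app_zero_of_comp (J.cocomplex.d_comp_d l m n) (opn A O) y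

theorem jd_shape {m n : ℕ} (h : ¬ (ComplexShape.up ℕ).Rel m n) (O : A.left.Opens) (y : JS A J m O) :
    jd A J m n O y = 0 :=
  (app_congr (J.cocomplex.shape m n h) (opn A O) y).trans (hom_app_zero (opn A O) y)

theorem jr_surjective {n : ℕ} {O O' : A.left.Opens} (h : O' ≤ O) : Function.Surjective (jr A J (n := n) h) :=
  haveI := J.injective n
  surjective_map_of_injective (J.cocomplex.X n) (opnLE A h)

/-- A pair of opens as a family. -/
def twoO (U₁ U₂ : A.left.Opens) : ULift.{u + 1} Bool → A.left.Opens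
  | ⟨true⟩ => U₁
  | ⟨false⟩ => U₂

theorem twoO_le {U₁ U₂ P : A.left.Opens} (i1 : U₁ ≤ P) (i2 : U₂ ≤ P) : ∀ i, twoO A U₁ U₂ i ≤ P
  | ⟨true⟩ => i1
  | ⟨false⟩ => i2

theorem opnLE_apply {O O' : A.left.Opens} (h : O' ≤ O) (z : O'.toScheme) :
    (opnLE A h).left.base z = (⟨z.1, h z.2⟩ : O.toScheme) :=
  Subtype.ext (congr($(A.left.homOfLE_ι h) z))

theorem covering_two {U₁ U₂ P : A.left.Opens} (i1 : U₁ ≤ P) (i2 : U₂ ≤ P) (hc : P ≤ U₁ ⊔ U₂) :
    Sieve.generate (Presieve.ofArrows (fun i => opn A (twoO A U₁ U₂ i))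
      (fun i => opnLE A (twoO_le A i1 i2 i))) ∈ T.smallEtaleTopology (opn A P) :=
  (Groth.L27.EtSite.mem_topology_iff _).2 fun z => by
    rcases hc z.2 with h | h
    · exact ⟨opn A U₁, opnLE A i1, (⟨z.1, h⟩ : U₁.toScheme),
        Sieve.le_generate _ _ _ (Presieve.ofArrows.mk (ι := ULift.{u + 1} Bool) ⟨true⟩), opnLE_apply A i1 _⟩
    · exact ⟨opn A U₂, opnLE A i2, (⟨z.1, h⟩ : U₂.toScheme),
        Sieve.le_generate _ _ _ (Presieve.ofArrows.mk (ι := ULift.{u + 1} Bool) ⟨false⟩), opnLE_apply A i2 _⟩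

theorem jeq2 {n : ℕ} {U₁ U₂ P : A.left.Opens} (i1 : U₁ ≤ P) (i2 : U₂ ≤ P) (hc : P ≤ U₁ ⊔ U₂)
    (a b : JS A J n P) (h1 : jr A J i1 a = jr A J i1 b) (h2 : jr A J i2 a = jr A J i2 b) : a = b := by
  refine (((Presieve.isSheafFor_iff_generate _).2 (Groth.L28.EtCartan.isSheaf_types (J.cocomplex.X n) _
    (covering_two A i1 i2 hc))).isSeparatedFor).ext fun Z k hk => ?_
  cases hk with
  | mk i =>
    rcases i with ⟨_ | _⟩
    · exact h2
    · exact h1

theorem jglue2 {n : ℕ} {U₁ U₂ P : A.left.Opens} (i1 : U₁ ≤ P) (i2 : U₂ ≤ P) (hc : P ≤ U₁ ⊔ U₂)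
    (a₁ : JS A J n U₁) (a₂ : JS A J n U₂)
    (h : ∀ (R : A.left.Opens) (r1 : R ≤ U₁) (r2 : R ≤ U₂), jr A J r1 a₁ = jr A J r2 a₂) :
    ∃ a, jr A J i1 a = a₁ ∧ jr A J i2 a = a₂ := by
  let fam : ∀ i : ULift.{u + 1} Bool, JS A J n (twoO A U₁ U₂ i) := fun i =>
    match i with | ⟨true⟩ => a₁ | ⟨false⟩ => a₂
  have key : ∀ (Z : T.Etale) (k₁ : Z ⟶ opn A U₁) (k₂ : Z ⟶ opn A U₂), k₁ ≫ opnLE A i1 = k₂ ≫ opnLE A i2 →
      (J.cocomplex.X n).obj.map k₁.op a₁ = (J.cocomplex.X n).obj.map k₂.op a₂ := by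
    intro Z k₁ k₂ e
    have e' : k₁ ≫ opnHom A U₁ = k₂ ≫ opnHom A U₂ := by
      rw [← opnLE_hom A i1, ← opnLE_hom A i2, ← Category.assoc, e, Category.assoc]
    have el : k₁.left ≫ U₁.ι = k₂.left ≫ U₂.ι := congrArg (fun k : Z ⟶ A => k.left) e'
    have hr : Set.range (k₁.left ≫ U₁.ι) ⊆ Set.range (U₁ ⊓ U₂ : A.left.Opens).ι := by
      rintro _ ⟨z, rfl⟩
      refine ⟨⟨(k₁.left ≫ U₁.ι) z, ⟨(k₁.left z).2, ?_⟩⟩, rfl⟩
      rw [el]
      exact (k₂.left z).2
    let l : Z ⟶ opn A (U₁ ⊓ U₂) := MorphismProperty.Over.homMk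
      (IsOpenImmersion.lift (U₁ ⊓ U₂ : A.left.Opens).ι (k₁.left ≫ U₁.ι) hr) (by
        show _ ≫ (U₁ ⊓ U₂ : A.left.Opens).ι ≫ A.hom = Z.hom
        exact (IsOpenImmersion.lift_fac_assoc _ _ _ _).trans
          ((Category.assoc _ _ _).trans (MorphismProperty.Over.w k₁)))
    have l1 : l ≫ opnLE A (inf_le_left : U₁ ⊓ U₂ ≤ U₁) = k₁ := (cancel_mono (opnHom A U₁)).1 (by
      rw [Category.assoc, opnLE_hom]
      exact MorphismProperty.Over.Hom.ext (IsOpenImmersion.lift_fac _ _ _))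
    have l2 : l ≫ opnLE A (inf_le_right : U₁ ⊓ U₂ ≤ U₂) = k₂ := (cancel_mono (opnHom A U₂)).1 (by
      rw [Category.assoc, opnLE_hom]
      exact MorphismProperty.Over.Hom.ext ((IsOpenImmersion.lift_fac _ _ _).trans el))
    rw [← l1, ← l2, ← map_map_apply, ← map_map_apply]
    exact congrArg _ (h _ inf_le_left inf_le_right)
  obtain ⟨a, ha, -⟩ := (Presieve.isSheafFor_arrows_iff _ _).1
    ((Presieve.isSheafFor_iff_generate _).2 (Groth.L28.EtCartan.isSheaf_types (J.cocomplex.X n) _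
      (covering_two A i1 i2 hc))) fam (by
    rintro ⟨_ | _⟩ ⟨_ | _⟩ Z k₁ k₂ e
    · exact congrArg (fun k : Z ⟶ opn A U₂ => (J.cocomplex.X n).obj.map k.op a₂) ((cancel_mono (opnLE A i2)).1 e)
    · exact (key Z k₂ k₁ e.symm).symm
    · exact key Z k₁ k₂ e
    · exact congrArg (fun k : Z ⟶ opn A U₁ => (J.cocomplex.X n).obj.map k.op a₁) ((cancel_mono (opnLE A i1)).1 e))
  exact ⟨a, ha ⟨true⟩, ha ⟨false⟩⟩

end Sections

section Qis

variable {T S : Scheme.{u}} (f : T ⟶ S) {U₀ : Scheme.{u}} (v : U₀ ⟶ S) (A : T.Etale) (f' : A.left ⟶ U₀)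
  (w : A.hom ≫ f = f' ≫ v) {V : S.Opens} (eV : (⊤ : U₀.Opens) ≤ v ⁻¹ᵁ V)
  (alg : Algebra Γ(S, V) Γ(U₀, ⊤)) (halg : algebraMap Γ(S, V) Γ(U₀, ⊤) = (v.appLE V ⊤ eV).hom)
  {F : T.Modules} [Coh.IsQCoh F] (I : InjectiveResolution F) (J : InjectiveResolution (sh F))
  (α : ∀ n, psh (I.cocomplex.X n) ⟶ (J.cocomplex.X n).obj)
  (hcomm : ∀ m n, pshMap (I.cocomplex.d m n) ≫ α n = α m ≫ (J.cocomplex.d m n).hom)
  (haug : pshMap (I.ι.f 0) ≫ α 0 = (J.ι.f 0).hom)

/-- The comparison. -/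
def Tc {W : T.Opens} (e : W ≤ f ⁻¹ᵁ V) (n : ℕ) :
    Γ(U₀, ⊤) ⊗[Γ(S, V)] SecA f (I.cocomplex.X n) e →+ JS A J n (pr f' A.hom (⊤ : U₀.Opens) W) :=
  ((α n).app (op (opn A (pr f' A.hom (⊤ : U₀.Opens) W)))).hom.comp
    ((κ (I.cocomplex.X n) A (pr f' A.hom (⊤ : U₀.Opens) W)).comp
      (β f v A.hom f' w (I.cocomplex.X n) eV alg halg e (pr f' A.hom (⊤ : U₀.Opens) W) inf_le_left inf_le_right))

theorem Tc_apply {W : T.Opens} (e : W ≤ f ⁻¹ᵁ V) (n : ℕ) (z) :
    Tc f v A f' w eV alg halg I J α e n z = (α n).app (op (opn A (pr f' A.hom (⊤ : U₀.Opens) W)))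
      (κ (I.cocomplex.X n) A _
        (β f v A.hom f' w (I.cocomplex.X n) eV alg halg e (pr f' A.hom (⊤ : U₀.Opens) W)
          inf_le_left inf_le_right z)) := rfl

include hcomm in
theorem Tc_d {W : T.Opens} (e : W ≤ f ⁻¹ᵁ V) (m n : ℕ) (z) :
    Tc f v A f' w eV alg halg I J α e n (dB f alg I e m n z) =
      jd A J m n (pr f' A.hom (⊤ : U₀.Opens) W) (Tc f v A f' w eV alg halg I J α e m z) := by
  rw [Tc_apply, Tc_apply, β_map, κ_map]
  exact congr($(congrArg (fun k => NatTrans.app k (op (opn A (pr f' A.hom (⊤ : U₀.Opens) W)))) (hcomm m n)) _)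

theorem Tc_res {W W₁ : T.Opens} (e : W ≤ f ⁻¹ᵁ V) (h : W₁ ≤ W) (n : ℕ) (z) :
    Tc f v A f' w eV alg halg I J α (h.trans e) n ((resA f _ e h).lTensor _ z) =
      jr A J (pr_mono A.hom f' h) (Tc f v A f' w eV alg halg I J α e n z) := by
  rw [Tc_apply, Tc_apply]
  refine Eq.trans (congrArg _ (congrArg _ (β_res f v A.hom f' w (I.cocomplex.X n) eV alg halg e h
    (e₁ := inf_le_left) (e₂ := inf_le_right) (pr_mono A.hom f' h) inf_le_left z))) ?_
  rw [κ_res]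
  exact NatTrans.naturality_apply (α n) (opnLE A (pr_mono A.hom f' h)).op _

/-- The comparison is a quasi-isomorphism. -/
def Qis (W : T.Opens) : Prop :=
  ∀ (e : W ≤ f ⁻¹ᵁ V) (n : ℕ),
    (∀ z, dB f alg I e n (n + 1) z = 0 →
      (∃ y, Tc f v A f' w eV alg halg I J α e n z =
        jd A J ((ComplexShape.up ℕ).prev n) n (pr f' A.hom (⊤ : U₀.Opens) W) y) →
      ∃ x, z = dB f alg I e ((ComplexShape.up ℕ).prev n) n x) ∧
    (∀ t, jd A J n (n + 1) (pr f' A.hom (⊤ : U₀.Opens) W) t = 0 →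
      ∃ z y, dB f alg I e n (n + 1) z = 0 ∧
        t = Tc f v A f' w eV alg halg I J α e n z +
          jd A J ((ComplexShape.up ℕ).prev n) n (pr f' A.hom (⊤ : U₀.Opens) W) y)

include haug in
theorem qis_affine (hc : IsPullback A.hom f' f v) [IsAffine U₀] (hV : IsAffineOpen V)
    (hflat : Module.Flat Γ(S, V) Γ(U₀, ⊤)) {W : T.Opens} (hW : IsAffineOpen W) :
    Qis f v A f' w eV alg halg I J α W := by
  intro e n
  have hV' : IsAffineOpen (⊤ : U₀.Opens) := isAffineOpen_top U₀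
  have hpb := Scheme.Hom.isPullback_resLE hc (UT := (⊤ : U₀.Opens)) eV e
    (UY := pr f' A.hom (⊤ : U₀.Opens) W) rfl
  haveI : IsAffine V.toScheme := hV
  haveI : IsAffine W.toScheme := hW
  haveI : IsAffine (⊤ : U₀.Opens).toScheme := hV'
  have hU : IsAffineOpen (pr f' A.hom (⊤ : U₀.Opens) W) := IsAffine.of_isPullback hpb
  haveI : IsAffine (opn A (pr f' A.hom (⊤ : U₀.Opens) W)).left := hU
  have hacyc := acyc_sh F
  cases n with
  | succ n =>
    have hp : ∀ p, p = n → (∀ z, dB f alg I e (n + 1) (n + 1 + 1) z = 0 → ∃ x, z = dB f alg I e p (n + 1) x) ∧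
        (∀ t, jd A J (n + 1) (n + 1 + 1) (pr f' A.hom (⊤ : U₀.Opens) W) t = 0 →
          ∃ y, t = jd A J p (n + 1) (pr f' A.hom (⊤ : U₀.Opens) W) y) := by
      rintro p rfl
      refine ⟨fun z hz => ?_, fun t ht => ?_⟩
      · have hex : Function.Exact (secMap f (I.cocomplex.d p (p + 1)) e)
            (secMap f (I.cocomplex.d (p + 1) (p + 1 + 1)) e) := fun s =>
          ⟨fun hs => Groth.L17.CxTheta.exists_d_eq I hW p s hs, by
            rintro ⟨y, rfl⟩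
            exact congr($(congrArg (fun k => Scheme.Modules.Hom.app k W)
              (I.cocomplex.d_comp_d p (p + 1) (p + 1 + 1))) y)⟩
        obtain ⟨x, hx⟩ := (Module.Flat.lTensor_exact Γ(U₀, ⊤) hex z).1 hz
        exact ⟨x, hx.symm⟩
      · obtain ⟨y, hy⟩ := exists_d_eq J hacyc (opn A (pr f' A.hom (⊤ : U₀.Opens) W)) p t ht
        exact ⟨y, hy.symm⟩
    obtain ⟨h1, h2⟩ := hp _ (CochainComplex.prev_nat_succ n)
    refine ⟨fun z hz _ => h1 z hz, fun t ht => ?_⟩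
    obtain ⟨y, hy⟩ := h2 t ht
    exact ⟨0, y, map_zero _, by rw [map_zero, zero_add]; exact hy⟩
  | zero =>
    have hg := good_affine f v A.hom f' w F eV alg halg hc hV hV' hW e
    have hκ := bijective_κ F A (pr f' A.hom (⊤ : U₀.Opens) W)
    have hd : ∀ p y, jd A J p 0 (pr f' A.hom (⊤ : U₀.Opens) W) y = 0 := fun p y =>
      jd_shape A J (by simp) _ y
    have hT : ∀ m, Tc f v A f' w eV alg halg I J α e 0 ((secMap f (I.ι.f 0) e).lTensor _ m) =
        (J.ι.f 0).hom.app (op (opn A (pr f' A.hom (⊤ : U₀.Opens) W))) (κ F A _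
          (β f v A.hom f' w F eV alg halg e (pr f' A.hom (⊤ : U₀.Opens) W) inf_le_left inf_le_right m)) :=
      fun m => by
        refine (congrArg ((α 0).app _) ((congrArg _ (β_map f v A.hom f' w eV alg halg (I.ι.f 0) e
          (pr f' A.hom (⊤ : U₀.Opens) W) inf_le_left inf_le_right m)).trans
            (κ_map A (I.ι.f 0) (pr f' A.hom (⊤ : U₀.Opens) W) _))).trans ?_
        exact congr($(congrArg (fun k => NatTrans.app k (op (opn A (pr f' A.hom (⊤ : U₀.Opens) W)))) haug) _)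
    refine ⟨fun z hz ⟨y, hy⟩ => ?_, fun t ht => ?_⟩
    · have hex : Function.Exact (secMap f (I.ι.f 0) e) (secMap f (I.cocomplex.d 0 1) e) := fun s =>
        ⟨fun hs => Groth.L17.CxTheta.exists_lift_of_exact _ _ I.ι_f_zero_comp_complex_d I.exact₀ W s hs, by
          rintro ⟨y, rfl⟩
          exact congr($(congrArg (fun k => Scheme.Modules.Hom.app k W) I.ι_f_zero_comp_complex_d) y)⟩
      obtain ⟨m, rfl⟩ := (Module.Flat.lTensor_exact Γ(U₀, ⊤) hex z).1 hz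
      rw [hT, hd] at hy
      have : m = 0 := hg.1 ((hκ.1 ((injective_app_mono (J.ι.f 0) _ (hy.trans (map_zero _).symm)).trans
        (map_zero _).symm)).trans (map_zero _).symm)
      exact ⟨0, by rw [this, map_zero, map_zero]⟩
    · haveI : Mono (ShortComplex.mk (J.ι.f 0) (J.cocomplex.d 0 1) J.ι_f_zero_comp_complex_d).f :=
        inferInstanceAs (Mono (J.ι.f 0))
      obtain ⟨m', hm'⟩ := exists_ker_lift
        (T := ShortComplex.mk (J.ι.f 0) (J.cocomplex.d 0 1) J.ι_f_zero_comp_complex_d) J.exact₀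
        (opn A (pr f' A.hom (⊤ : U₀.Opens) W)) t ht
      obtain ⟨m₁, rfl⟩ := hκ.2 m'
      obtain ⟨m, rfl⟩ := hg.2 m₁
      refine ⟨(secMap f (I.ι.f 0) e).lTensor _ m, 0, ?_, by rw [hT, hd, add_zero]; exact hm'.symm⟩
      rw [dB, ← LinearMap.comp_apply, ← LinearMap.lTensor_comp, ← secMap_comp, I.ι_f_zero_comp_complex_d,
        show secMap f (0 : F ⟶ I.cocomplex.X 1) e = 0 from LinearMap.ext fun _ => rfl, LinearMap.lTensor_zero]
      rfl

set_option maxHeartbeats 1600000 in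
include hcomm in
theorem qis_sup [Module.Flat Γ(S, V) Γ(U₀, ⊤)] {U₁ U₂ : T.Opens} (h1 : Qis f v A f' w eV alg halg I J α U₁)
    (h2 : Qis f v A f' w eV alg halg I J α U₂) (h12 : Qis f v A f' w eV alg halg I J α (U₁ ⊓ U₂)) :
    Qis f v A f' w eV alg halg I J α (U₁ ⊔ U₂) := by
  intro e n
  haveI := I.injective
  haveI := J.injective
  set p := (ComplexShape.up ℕ).prev n with hp
  set q := (ComplexShape.up ℕ).prev p with hq
  have hpn : (n = 0 ∧ p = 0) ∨ (p + 1 = n) := by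
    rcases n with _ | m
    · exact Or.inl ⟨rfl, hp.trans (by simp)⟩
    · exact Or.inr (by rw [hp, CochainComplex.prev_nat_succ])
  have e1 : U₁ ≤ f ⁻¹ᵁ V := le_sup_left.trans e
  have e2 : U₂ ≤ f ⁻¹ᵁ V := le_sup_right.trans e
  have e12 : U₁ ⊓ U₂ ≤ f ⁻¹ᵁ V := inf_le_left.trans e1
  have i1 := pr_mono A.hom f' (V' := (⊤ : U₀.Opens)) (le_sup_left : U₁ ≤ U₁ ⊔ U₂)
  have i2 := pr_mono A.hom f' (V' := (⊤ : U₀.Opens)) (le_sup_right : U₂ ≤ U₁ ⊔ U₂)
  have j1 := pr_mono A.hom f' (V' := (⊤ : U₀.Opens)) (inf_le_left : U₁ ⊓ U₂ ≤ U₁)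
  have j2 := pr_mono A.hom f' (V' := (⊤ : U₀.Opens)) (inf_le_right : U₁ ⊓ U₂ ≤ U₂)
  have hcov : pr f' A.hom (⊤ : U₀.Opens) (U₁ ⊔ U₂) ≤ pr f' A.hom (⊤ : U₀.Opens) U₁ ⊔ pr f' A.hom (⊤ : U₀.Opens) U₂ := by
    rintro x ⟨hx | hx, hx'⟩
    · exact Or.inl ⟨hx, hx'⟩
    · exact Or.inr ⟨hx, hx'⟩
  have hdl : ∀ (U U' : A.left.Opens) (h : U' ≤ U) (a b : ℕ) (y : JS A J a U),
      jr A J h (jd A J a b U y) = jd A J a b U' (jr A J h y) :=
    fun U U' h a b y => jd_jr A J h y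
  -- two boundaries with the same restriction
  have hjoin : ∀ (y₁ : JS A J p (pr f' A.hom (⊤ : U₀.Opens) U₁)) (y₂ : JS A J p (pr f' A.hom (⊤ : U₀.Opens) U₂)),
      jd A J p n _ (jr A J j1 y₁ - jr A J j2 y₂) = 0 → n ≠ 0 →
      ∃ c vv, dB f alg I e12 p n c = 0 ∧ jr A J j1 y₁ - jr A J j2 y₂ =
        Tc f v A f' w eV alg halg I J α e12 p c + jd A J q p _ vv := by
    intro y₁ y₂ hy hn
    rcases hpn with ⟨hn', -⟩ | hpn'
    · exact absurd hn' hn
    obtain ⟨c, vv, hc, hv⟩ := (h12 e12 p).2 (jr A J j1 y₁ - jr A J j2 y₂) (by rw [hpn']; exact hy)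
    exact ⟨c, vv, by rw [hpn'] at hc; exact hc, hv⟩
  refine ⟨fun z hz ⟨y, hy⟩ => ?_, fun t ht => ?_⟩
  · obtain ⟨x₁, hx₁⟩ := (h1 e1 n).1 _ (by rw [← dB_res f alg I e le_sup_left, hz, map_zero])
      ⟨jr A J i1 y, by rw [Tc_res f v A f' w eV alg halg I J α e le_sup_left, hy, hdl]⟩
    obtain ⟨x₂, hx₂⟩ := (h2 e2 n).1 _ (by rw [← dB_res f alg I e le_sup_right, hz, map_zero])
      ⟨jr A J i2 y, by rw [Tc_res f v A f' w eV alg halg I J α e le_sup_right, hy, hdl]⟩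
    rcases hpn with ⟨rfl, -⟩ | hpn'
    · have h0 : ∀ (U : T.Opens) (eU : U ≤ f ⁻¹ᵁ V) (x : Γ(U₀, ⊤) ⊗[Γ(S, V)] SecA f (I.cocomplex.X p) eU),
          dB f alg I eU p 0 x = 0 := fun U eU x => by
        have : secMap f (I.cocomplex.d p 0) eU = 0 := by
          rw [I.cocomplex.shape p 0 (by simp)]; exact LinearMap.ext fun _ => rfl
        rw [dB, this, LinearMap.lTensor_zero]; rfl
      refine ⟨0, (eq_of_res f alg _ e z _ ?_ ?_)⟩
      · rw [hx₁, map_zero, map_zero, h0]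
      · rw [hx₂, map_zero, map_zero, h0]
    -- make the comparisons of the primitives agree with `y`
    have hc1 : jd A J p (p + 1) _ (Tc f v A f' w eV alg halg I J α e1 p x₁ - jr A J i1 y) = 0 := by
      rw [hpn', map_sub, ← Tc_d f v A f' w eV alg halg I J α hcomm, ← hx₁, ← hdl, Tc_res f v A f' w eV alg halg I J α e le_sup_left, hy, sub_self]
    have hc2 : jd A J p (p + 1) _ (Tc f v A f' w eV alg halg I J α e2 p x₂ - jr A J i2 y) = 0 := by
      rw [hpn', map_sub, ← Tc_d f v A f' w eV alg halg I J α hcomm, ← hx₂, ← hdl, Tc_res f v A f' w eV alg halg I J α e le_sup_right, hy, sub_self]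
    obtain ⟨a₁, b₁, ha₁, hb₁⟩ := (h1 e1 p).2 _ hc1
    obtain ⟨a₂, b₂, ha₂, hb₂⟩ := (h2 e2 p).2 _ hc2
    rw [hpn'] at ha₁ ha₂
    let r1 := (resA f (I.cocomplex.X p) e1 (inf_le_left : U₁ ⊓ U₂ ≤ U₁)).lTensor Γ(U₀, ⊤)
    let r2 := (resA f (I.cocomplex.X p) e2 (inf_le_right : U₁ ⊓ U₂ ≤ U₂)).lTensor Γ(U₀, ⊤)
    have hw1 : dB f alg I e12 p n (r1 (x₁ - a₁) - r2 (x₂ - a₂)) = 0 := by
      rw [map_sub (dB f alg I e12 p n), ← dB_res f alg I e1 inf_le_left, ← dB_res f alg I e2 inf_le_right,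
        map_sub (dB f alg I e1 p n), map_sub (dB f alg I e2 p n),
        ha₁, ha₂, sub_zero, sub_zero, ← hx₁, ← hx₂, ← LinearMap.comp_apply, ← LinearMap.comp_apply,
        ← LinearMap.lTensor_comp, ← LinearMap.lTensor_comp]
      refine sub_eq_zero.2 (congrArg (fun φ => LinearMap.lTensor Γ(U₀, ⊤) φ z) (LinearMap.ext fun s => ?_))
      show rs _ _ (rs _ _ s) = rs _ _ (rs _ _ s)
      rw [rs_rs, rs_rs]
    have hw2 : Tc f v A f' w eV alg halg I J α e12 p (r1 (x₁ - a₁) - r2 (x₂ - a₂)) =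
        jd A J q p _ (jr A J j1 b₁ - jr A J j2 b₂) := by
      have k1 : Tc f v A f' w eV alg halg I J α e1 p (x₁ - a₁) = jr A J i1 y + jd A J q p _ b₁ := by
        rw [map_sub]; rw [sub_eq_iff_eq_add] at hb₁ ⊢; rw [hb₁]; abel
      have k2 : Tc f v A f' w eV alg halg I J α e2 p (x₂ - a₂) = jr A J i2 y + jd A J q p _ b₂ := by
        rw [map_sub]; rw [sub_eq_iff_eq_add] at hb₂ ⊢; rw [hb₂]; abel
      rw [map_sub (Tc f v A f' w eV alg halg I J α e12 p), Tc_res f v A f' w eV alg halg I J α e1 inf_le_left,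
        Tc_res f v A f' w eV alg halg I J α e2 inf_le_right, k1, k2]
      rw [map_add, map_add, map_sub, jr_jr, jr_jr, hdl, hdl]
      abel
    obtain ⟨c, hcc⟩ := (h12 e12 p).1 _ (by rw [hpn']; exact hw1) ⟨_, hw2⟩
    obtain ⟨c₁, hc₁⟩ := exists_ext f alg e1 (inf_le_left : U₁ ⊓ U₂ ≤ U₁) c
    have hagree : r1 (x₁ - a₁ - dB f alg I e1 q p c₁) = r2 (x₂ - a₂) := by
      rw [map_sub r1, dB_res f alg I e1 inf_le_left, hc₁, ← hcc]
      abel
    obtain ⟨x, hx, hx'⟩ := exists_glue f alg _ e _ _ hagree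
    refine ⟨x, (eq_of_res f alg _ e z _ ?_ ?_)⟩
    · rw [dB_res f alg I e le_sup_left, hx, map_sub, map_sub, ha₁, sub_zero, dB_dB, sub_zero, hx₁]
    · rw [dB_res f alg I e le_sup_right, hx', map_sub, ha₂, sub_zero, hx₂]
  · obtain ⟨a₁, b₁, ha₁, hb₁⟩ := (h1 e1 n).2 (jr A J i1 t) (by rw [← hdl, ht, map_zero])
    obtain ⟨a₂, b₂, ha₂, hb₂⟩ := (h2 e2 n).2 (jr A J i2 t) (by rw [← hdl, ht, map_zero])
    let r1 := (resA f (I.cocomplex.X n) e1 (inf_le_left : U₁ ⊓ U₂ ≤ U₁)).lTensor Γ(U₀, ⊤)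
    let r2 := (resA f (I.cocomplex.X n) e2 (inf_le_right : U₁ ⊓ U₂ ≤ U₂)).lTensor Γ(U₀, ⊤)
    have hw2 : Tc f v A f' w eV alg halg I J α e12 n (r1 a₁ - r2 a₂) = jd A J p n _ (jr A J j2 b₂ - jr A J j1 b₁) := by
      have k1 : Tc f v A f' w eV alg halg I J α e1 n a₁ = jr A J i1 t - jd A J p n _ b₁ := eq_sub_of_add_eq hb₁.symm
      have k2 : Tc f v A f' w eV alg halg I J α e2 n a₂ = jr A J i2 t - jd A J p n _ b₂ := eq_sub_of_add_eq hb₂.symm
      rw [map_sub (Tc f v A f' w eV alg halg I J α e12 n), Tc_res f v A f' w eV alg halg I J α e1 inf_le_left,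
        Tc_res f v A f' w eV alg halg I J α e2 inf_le_right, k1, k2]
      simp only [map_sub, map_sub, jr_jr, hdl]
      abel
    obtain ⟨c, hcc⟩ := (h12 e12 n).1 _
      (by rw [map_sub, ← dB_res f alg I e1 inf_le_left, ← dB_res f alg I e2 inf_le_right, ha₁, ha₂, map_zero, map_zero,
        sub_zero]) ⟨_, hw2⟩
    obtain ⟨c₁, hc₁⟩ := exists_ext f alg e1 (inf_le_left : U₁ ⊓ U₂ ≤ U₁) c
    have hagree : r1 (a₁ - dB f alg I e1 p n c₁) = r2 a₂ := by
      rw [map_sub r1, dB_res f alg I e1 inf_le_left, hc₁, ← hcc]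
      abel
    let b₁' := b₁ + Tc f v A f' w eV alg halg I J α e1 p c₁
    have hb₁' : jr A J i1 t = Tc f v A f' w eV alg halg I J α e1 n (a₁ - dB f alg I e1 p n c₁) + jd A J p n _ b₁' := by
      rw [map_sub, Tc_d f v A f' w eV alg halg I J α hcomm, map_add, hb₁]; abel
    rcases hpn with ⟨hn, hp0⟩ | hpn'
    · obtain ⟨a, ha, ha'⟩ := exists_glue f alg _ e _ _ hagree
      refine ⟨a, 0, eq_of_res f alg _ e _ _ ?_ ?_, ?_⟩
      · rw [dB_res f alg I e le_sup_left, ha, map_sub, ha₁, dB_dB, sub_zero, map_zero]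
      · rw [dB_res f alg I e le_sup_right, ha', ha₂, map_zero]
      have hd0 : ∀ (U : A.left.Opens) (y : JS A J p U), jd A J p n U y = 0 := fun U y => by
        exact jd_shape A J (by rw [hn, hp0]; simp) U y
      rw [map_zero, add_zero]
      refine jeq2 A J i1 i2 hcov t _ ?_ ?_
      · refine (hb₁'.trans ?_).trans (Tc_res f v A f' w eV alg halg I J α e le_sup_left n a)
        rw [hd0, add_zero, ha]
      · refine (hb₂.trans ?_).trans (Tc_res f v A f' w eV alg halg I J α e le_sup_right n a)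
        rw [hd0, add_zero, ha']
    have hyy : jd A J p n _ (jr A J j1 b₁' - jr A J j2 b₂) = 0 := by
      have k1 : jd A J p n _ b₁' = jr A J i1 t - Tc f v A f' w eV alg halg I J α e1 n (a₁ - dB f alg I e1 p n c₁) :=
        eq_sub_of_add_eq' hb₁'.symm
      have k2 : jd A J p n _ b₂ = jr A J i2 t - Tc f v A f' w eV alg halg I J α e2 n a₂ := eq_sub_of_add_eq' hb₂.symm
      rw [map_sub, ← hdl, ← hdl, k1, k2, map_sub (jr A J j1), map_sub (jr A J j2), jr_jr, jr_jr,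
        ← Tc_res f v A f' w eV alg halg I J α e1 inf_le_left, ← Tc_res f v A f' w eV alg halg I J α e2 inf_le_right]
      refine sub_eq_zero.2 ?_
      exact congrArg₂ (· - ·) rfl (congrArg _ hagree)
    obtain ⟨c', vv, hc', hv⟩ := hjoin b₁' b₂ hyy (by omega)
    obtain ⟨c'₁, hc'₁⟩ := exists_ext f alg e1 (inf_le_left : U₁ ⊓ U₂ ≤ U₁) c'
    obtain ⟨v₁, hv₁⟩ := jr_surjective A J j1 vv
    let bb₁ := b₁' - Tc f v A f' w eV alg halg I J α e1 p c'₁ - jd A J q p _ v₁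
    let aa₁ := a₁ - dB f alg I e1 p n c₁ + dB f alg I e1 p n c'₁
    have hbb : jr A J i1 t = Tc f v A f' w eV alg halg I J α e1 n aa₁ + jd A J p n _ bb₁ := by
      simp only [bb₁, aa₁, map_add, map_sub, Tc_d f v A f' w eV alg halg I J α hcomm, jd_jd]
      rw [hb₁', map_sub, Tc_d f v A f' w eV alg halg I J α hcomm]; abel
    have hbg : jr A J j1 bb₁ = jr A J j2 b₂ := by
      simp only [bb₁, map_sub]
      rw [← Tc_res f v A f' w eV alg halg I J α e1 inf_le_left, hc'₁, hdl, show jr A J j1 v₁ = vv from hv₁]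
      rw [sub_eq_iff_eq_add] at hv
      rw [hv]; abel
    have hag : r1 aa₁ = r2 a₂ := by
      simp only [aa₁, map_add]
      rw [hagree, dB_res f alg I e1 inf_le_left, hc'₁, hc', add_zero]
    obtain ⟨a, ha, ha'⟩ := exists_glue f alg _ e _ _ hag
    obtain ⟨b, hb, hb'⟩ : ∃ b, jr A J i1 b = bb₁ ∧ jr A J i2 b = b₂ := by
      obtain ⟨b, hb, hb'⟩ := jglue2 A J i1 i2 hcov bb₁ b₂ fun R r1 r2 => by
        have k : R ≤ pr f' A.hom (⊤ : U₀.Opens) (U₁ ⊓ U₂) :=
          fun x hx => ⟨⟨(r1 hx).1, (r2 hx).1⟩, (r1 hx).2⟩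
        have h1 := congrArg (jr A J k) hbg
        rw [jr_jr, jr_jr] at h1
        exact h1
      exact ⟨b, hb, hb'⟩
    refine ⟨a, b, eq_of_res f alg _ e _ _ ?_ ?_, ?_⟩
    · rw [dB_res f alg I e le_sup_left, ha, map_add, map_sub, ha₁, dB_dB, dB_dB, sub_zero, add_zero, map_zero]
    · rw [dB_res f alg I e le_sup_right, ha', ha₂, map_zero]
    refine jeq2 A J i1 i2 hcov t _ ?_ ?_
    · refine hbb.trans ?_
      rw [← ha, Tc_res f v A f' w eV alg halg I J α e le_sup_left, ← hb, ← hdl]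
      exact (map_add _ _ _).symm
    · refine hb₂.trans ?_
      rw [← ha', Tc_res f v A f' w eV alg halg I J α e le_sup_right, ← hb', ← hdl]
      exact (map_add _ _ _).symm


include haug hcomm in
/-- The comparison is a quasi-isomorphism over quasi-compact opens above `V`. -/
theorem qis_preimage [QuasiCompact f] [QuasiSeparated f] (hc : IsPullback A.hom f' f v) [IsAffine U₀]
    (hV : IsAffineOpen V) [Module.Flat Γ(S, V) Γ(U₀, ⊤)] : Qis f v A f' w eV alg halg I J α (f ⁻¹ᵁ V) := by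
  haveI : QuasiSeparatedSpace (f ⁻¹ᵁ V : T.Opens).toScheme := by
    haveI : IsAffine V.toScheme := hV
    exact quasiSeparatedSpace_of_quasiSeparated (f ∣_ V)
  have key : ∀ U : (f ⁻¹ᵁ V : T.Opens).toScheme.Opens, IsCompact (U : Set ↥(f ⁻¹ᵁ V : T.Opens).toScheme) →
      Qis f v A f' w eV alg halg I J α ((f ⁻¹ᵁ V).ι ''ᵁ U) := fun U hU => by
    refine Groth.L17.SchemeTheta.qc_induction
      (fun U => Qis f v A f' w eV alg halg I J α ((f ⁻¹ᵁ V).ι ''ᵁ U))
      (fun W hW => qis_affine f v A f' w eV alg halg I J α haug hc hV inferInstance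
        (hW.image_of_isOpenImmersion _)) (fun U₁ U₂ a b c => ?_) hU
    have e1 : (f ⁻¹ᵁ V).ι ''ᵁ (U₁ ⊔ U₂) = (f ⁻¹ᵁ V).ι ''ᵁ U₁ ⊔ (f ⁻¹ᵁ V).ι ''ᵁ U₂ :=
      Opens.ext (Set.image_union _ _ _)
    have e2 : (f ⁻¹ᵁ V).ι ''ᵁ (U₁ ⊓ U₂) = (f ⁻¹ᵁ V).ι ''ᵁ U₁ ⊓ (f ⁻¹ᵁ V).ι ''ᵁ U₂ :=
      Opens.ext (Set.image_inter (f ⁻¹ᵁ V).ι.isOpenEmbedding.injective)
    rw [e1]
    refine qis_sup f v A f' w eV alg halg I J α hcomm a b ?_
    rw [← e2]
    exact c
  have := key ⊤ (by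
    haveI : CompactSpace (f ⁻¹ᵁ V : T.Opens).toScheme :=
      isCompact_iff_compactSpace.1 (f.isCompact_preimage hV.isCompact)
    exact isCompact_univ)
  rwa [Scheme.Hom.image_top_eq_opensRange, Scheme.Opens.opensRange_ι] at this

end Qis

end Groth.L23.EtRpush
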