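import Groth.Agent.L23.EtRpush.Psh
import Groth.Agent.L28.EtCartan.Criterion
import Mathlib.Algebra.Homology.Refinements
import Mathlib.Algebra.Homology.ShortComplex.ExactFunctor

/-! # Elementwise tools for complexes of etale abelian sheaves -/

universe u

open CategoryTheory CategoryTheory.Limits AlgebraicGeometry TopologicalSpace Opposite

set_option autoImplicit false
set_option linter.style.haveILetI false
set_option linter.unusedSectionVars false
set_option linter.unusedVariables false
set_option backward.isDefEq.respectTransparency false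
set_option backward.isDefEq.respectTransparency.types false

noncomputable section

namespace Groth.L23.EtRpush

variable {X : Scheme.{u}}

theorem map_map_apply {P : X.Etaleᵒᵖ ⥤ AddCommGrpCat.{u + 1}} {A B C : X.Etale} (g : B ⟶ A) (k : C ⟶ B)
    (s : P.obj (op A)) : P.map k.op (P.map g.op s) = P.map (k ≫ g).op s :=
  (ConcreteCategory.congr_hom (P.map_comp g.op k.op) s).symm

theorem map_id_apply' {P : X.Etaleᵒᵖ ⥤ AddCommGrpCat.{u + 1}} {A : X.Etale} (s : P.obj (op A)) :
    P.map (𝟙 A).op s = s :=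
  ConcreteCategory.congr_hom (P.map_id (op A)) s

/-- Sections of a sheaf agreeing locally are equal. -/
theorem eq_of_loc (G : EtCoh.Ab X) {A : X.Etale} {a b : G.obj.obj (op A)}
    (h : Loc A fun B g => G.obj.map g.op a = G.obj.map g.op b) : a = b :=
  ((Groth.L28.EtCartan.isSheaf_types G).isSeparated (Presheaf.equalizerSieve (F := G.obj) (X := op A) a b)
    ((loc_mem _).2 h)).ext fun B g hg => hg

theorem hom_app_comp {P Q R : EtCoh.Ab X} (f : P ⟶ Q) (g : Q ⟶ R) (A : X.Etale) (s : P.obj.obj (op A)) :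
    (f ≫ g).hom.app (op A) s = g.hom.app (op A) (f.hom.app (op A) s) := rfl

theorem hom_app_zero {P Q : EtCoh.Ab X} (A : X.Etale) (s : P.obj.obj (op A)) :
    (0 : P ⟶ Q).hom.app (op A) s = 0 := rfl

theorem app_zero_of_comp {P Q R : EtCoh.Ab X} {f : P ⟶ Q} {g : Q ⟶ R} (h : f ≫ g = 0) (A : X.Etale)
    (s : P.obj.obj (op A)) : g.hom.app (op A) (f.hom.app (op A) s) = 0 := by
  rw [← hom_app_comp, h]; rfl

theorem app_congr {P Q : EtCoh.Ab X} {f g : P ⟶ Q} (h : f = g) (A : X.Etale) (s : P.obj.obj (op A)) :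
    f.hom.app (op A) s = g.hom.app (op A) s := by rw [h]

theorem injective_app_mono {P Q : EtCoh.Ab X} (f : P ⟶ Q) [Mono f] (A : X.Etale) :
    Function.Injective (f.hom.app (op A)) :=
  (AddCommGrpCat.mono_iff_injective _).1
    (inferInstanceAs (Mono ((sheafToPresheaf _ _ ⋙ (evaluation _ _).obj (op A)).map f)))

/-- Kernels are computed on sections. -/
theorem exists_ker_lift {T : ShortComplex (EtCoh.Ab X)} (hT : T.Exact) [Mono T.f] (A : X.Etale)
    (t : T.X₂.obj.obj (op A)) (ht : T.g.hom.app (op A) t = 0) : ∃ a, T.f.hom.app (op A) a = t := by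
  let Φ := sheafToPresheaf X.smallEtaleTopology AddCommGrpCat.{u + 1} ⋙ (evaluation _ _).obj (op A)
  haveI : Φ.PreservesZeroMorphisms := ⟨fun _ _ => rfl⟩
  exact (ShortComplex.ab_exact_iff _).1 (hT.map_of_mono_of_preservesKernel Φ inferInstance inferInstance) t ht

/-- The morphism of an element. -/
def elemHom {M : AddCommGrpCat.{u + 1}} (p : M) : AddCommGrpCat.of (ULift.{u + 1} ℤ) ⟶ M :=
  AddCommGrpCat.ofHom ((zmultiplesHom M p).comp (AddEquiv.ulift : ULift.{u + 1} ℤ ≃+ ℤ).toAddMonoidHom)

/-- An element of a fibre product. -/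
theorem exists_pullback_elem {P Q R : EtCoh.Ab X} (f : P ⟶ R) (g : Q ⟶ R) (A : X.Etale) (p : P.obj.obj (op A))
    (q : Q.obj.obj (op A)) (h : f.hom.app (op A) p = g.hom.app (op A) q) :
    ∃ c, (pullback.fst f g).hom.app (op A) c = p ∧ (pullback.snd f g).hom.app (op A) c = q := by
  have H := (IsPullback.of_hasPullback f g).map
    (sheafToPresheaf X.smallEtaleTopology AddCommGrpCat.{u + 1} ⋙ (evaluation _ _).obj (op A))
  have e : elemHom p ≫ f.hom.app (op A) = elemHom q ≫ g.hom.app (op A) :=
    AddCommGrpCat.hom_ext (AddMonoidHom.ext fun k =>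
      (map_zsmul (f.hom.app (op A)).hom k.down p).trans ((congrArg (k.down • ·) h).trans
        (map_zsmul (g.hom.app (op A)).hom k.down q).symm))
  refine ⟨H.lift _ _ e (ULift.up 1), ?_, ?_⟩
  · exact (ConcreteCategory.congr_hom (H.lift_fst _ _ e) (ULift.up 1)).trans (one_zsmul _)
  · exact (ConcreteCategory.congr_hom (H.lift_snd _ _ e) (ULift.up 1)).trans (one_zsmul _)

/-- Locally surjective maps are epimorphisms. -/
theorem epi_of_loc {P Q : EtCoh.Ab X} (f : P ⟶ Q)
    (h : ∀ (A : X.Etale) (s : Q.obj.obj (op A)), Loc A fun B g => ∃ t, f.hom.app (op B) t = Q.obj.map g.op s) :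
    Epi f :=
  (Sheaf.isLocallySurjective_iff_epi' AddCommGrpCat.{u + 1} f).1 ⟨fun {U} s => (loc_mem _).2 (h U s)⟩

/-- Epimorphisms are locally surjective. -/
theorem loc_of_epi {P Q : EtCoh.Ab X} (f : P ⟶ Q) [Epi f] (A : X.Etale) (s : Q.obj.obj (op A)) :
    Loc A fun B g => ∃ t, f.hom.app (op B) t = Q.obj.map g.op s :=
  haveI : Sheaf.IsLocallySurjective f := (Sheaf.isLocallySurjective_iff_epi' AddCommGrpCat.{u + 1} f).2 inferInstance
  (loc_mem _).1 (Presheaf.imageSieve_mem X.smallEtaleTopology f.hom s)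

/-- Exactness from local lifting. -/
theorem exact_of_loc (T : ShortComplex (EtCoh.Ab X))
    (h : ∀ (A : X.Etale) (s : T.X₂.obj.obj (op A)), T.g.hom.app (op A) s = 0 →
      Loc A fun B g => ∃ a, T.f.hom.app (op B) a = T.X₂.obj.map g.op s) : T.Exact := by
  rw [ShortComplex.exact_iff_epi_toCycles]
  refine epi_of_loc _ fun A c => ?_
  refine (h A (T.iCycles.hom.app (op A) c) (app_zero_of_comp T.iCycles_g A c)).mono fun B g ⟨a, ha⟩ => ⟨a, ?_⟩
  refine injective_app_mono T.iCycles B ?_
  refine (hom_app_comp T.toCycles T.iCycles B a).symm.trans ?_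
  rw [T.toCycles_i, ha]
  exact (NatTrans.naturality_apply T.iCycles.hom g.op c).symm

/-- Local lifting from exactness. -/
theorem loc_of_exact {T : ShortComplex (EtCoh.Ab X)} (hT : T.Exact) (A : X.Etale) (s : T.X₂.obj.obj (op A))
    (hs : T.g.hom.app (op A) s = 0) : Loc A fun B g => ∃ a, T.f.hom.app (op B) a = T.X₂.obj.map g.op s := by
  obtain ⟨c, hc⟩ := exists_ker_lift (T := ShortComplex.mk T.iCycles T.g T.iCycles_g)
    (ShortComplex.exact_of_f_is_kernel _ T.cyclesIsKernel) A s hs
  haveI := (ShortComplex.exact_iff_epi_toCycles T).1 hT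
  refine (loc_of_epi T.toCycles A c).mono fun B g ⟨a, ha⟩ => ⟨a, ?_⟩
  rw [← T.toCycles_i, hom_app_comp, ha, ← hc]
  exact NatTrans.naturality_apply T.iCycles.hom g.op c

section Criterion

variable {K L : CochainComplex (EtCoh.Ab X) ℕ} (φ : K ⟶ L) (i : ℕ)

theorem exists_cycle (A : X.Etale) (z : (K.X i).obj.obj (op A)) (hz : (K.d i (i + 1)).hom.app (op A) z = 0) :
    ∃ c, (K.iCycles i).hom.app (op A) c = z :=
  exists_ker_lift (T := ShortComplex.mk _ _ (K.iCycles_d i (i + 1)))
    (ShortComplex.exact_of_f_is_kernel _ (K.cyclesIsKernel i (i + 1) (by simp))) A z hz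

/-- An elementwise criterion for isomorphisms in homology. -/
theorem isIso_homologyMap_of_loc
    (hinj : ∀ (A : X.Etale) (z : (K.X i).obj.obj (op A)), (K.d i (i + 1)).hom.app (op A) z = 0 →
      ∀ y, (φ.f i).hom.app (op A) z = (L.d ((ComplexShape.up ℕ).prev i) i).hom.app (op A) y →
      Loc A fun B g => ∃ x, (K.d ((ComplexShape.up ℕ).prev i) i).hom.app (op B) x = (K.X i).obj.map g.op z)
    (hsurj : ∀ (A : X.Etale) (t : (L.X i).obj.obj (op A)), (L.d i (i + 1)).hom.app (op A) t = 0 →
      Loc A fun B g => ∃ z y, (K.d i (i + 1)).hom.app (op B) z = 0 ∧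
        (φ.f i).hom.app (op B) z + (L.d ((ComplexShape.up ℕ).prev i) i).hom.app (op B) y =
          (L.X i).obj.map g.op t) : IsIso (HomologicalComplex.homologyMap φ i) := by
  haveI : Mono (HomologicalComplex.homologyMap φ i) := by
    rw [HomologicalComplex.mono_homologyMap_iff_up_to_refinements φ _ i (i + 1) rfl (by simp)]
    intro A₀ x₂ hx₂ y₁ hy₁
    refine ⟨pullback x₂ (K.d ((ComplexShape.up ℕ).prev i) i), pullback.fst _ _, epi_of_loc _ fun A s => ?_,
      pullback.snd _ _, pullback.condition⟩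
    refine (hinj A (x₂.hom.app (op A) s) (app_zero_of_comp hx₂ A s) (y₁.hom.app (op A) s)
      (app_congr hy₁ A s)).mono fun B g ⟨x, hx⟩ => ?_
    obtain ⟨c, hc, -⟩ := exists_pullback_elem x₂ (K.d ((ComplexShape.up ℕ).prev i) i) B (A₀.obj.map g.op s) x
      ((NatTrans.naturality_apply x₂.hom g.op s).trans hx.symm)
    exact ⟨c, hc⟩
  haveI : Epi (HomologicalComplex.homologyMap φ i) := by
    rw [HomologicalComplex.epi_homologyMap_iff_up_to_refinements φ _ i (i + 1) rfl (by simp)]
    intro A₀ y₂ hy₂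
    let m : K.cycles i ⊞ L.X ((ComplexShape.up ℕ).prev i) ⟶ L.X i :=
      biprod.desc (K.iCycles i ≫ φ.f i) (L.d ((ComplexShape.up ℕ).prev i) i)
    refine ⟨pullback y₂ m, pullback.fst _ _, epi_of_loc _ fun A s => ?_,
      pullback.snd _ _ ≫ biprod.fst ≫ K.iCycles i, by simp, pullback.snd _ _ ≫ biprod.snd, ?_⟩
    · refine (hsurj A (y₂.hom.app (op A) s) (app_zero_of_comp hy₂ A s)).mono fun B g ⟨z, y, hz, h⟩ => ?_
      obtain ⟨c, hc⟩ := exists_cycle i B z hz
      obtain ⟨e, he, -⟩ := exists_pullback_elem y₂ m B (A₀.obj.map g.op s)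
        ((biprod.inl : K.cycles i ⟶ _).hom.app (op B) c + (biprod.inr : L.X _ ⟶ _).hom.app (op B) y) (by
          rw [map_add, ← hom_app_comp, ← hom_app_comp, biprod.inl_desc, biprod.inr_desc, hom_app_comp, hc, h]
          exact NatTrans.naturality_apply y₂.hom g.op s)
      exact ⟨e, he⟩
    · rw [pullback.condition]
      simp only [m, biprod.desc_eq, Category.assoc, Preadditive.comp_add]
  exact isIso_of_mono_of_epi _

end Criterion

section Sheafify

theorem loc_toSheafify_surjective (P : X.Etaleᵒᵖ ⥤ AddCommGrpCat.{u + 1}) (A : X.Etale)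
    (s : ((presheafToSheaf X.smallEtaleTopology AddCommGrpCat.{u + 1}).obj P).obj.obj (op A)) :
    Loc A fun B g => ∃ s₀, (toSheafify X.smallEtaleTopology P).app (op B) s₀ =
      ((presheafToSheaf X.smallEtaleTopology AddCommGrpCat.{u + 1}).obj P).obj.map g.op s :=
  (loc_mem _).1 (Presheaf.imageSieve_mem X.smallEtaleTopology (toSheafify X.smallEtaleTopology P) s)

theorem loc_toSheafify_injective (P : X.Etaleᵒᵖ ⥤ AddCommGrpCat.{u + 1}) (A : X.Etale) (s : P.obj (op A))
    (hs : (toSheafify X.smallEtaleTopology P).app (op A) s = 0) :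
    Loc A fun B g => P.map g.op s = 0 :=
  ((loc_mem _).1 (Presheaf.equalizerSieve_mem X.smallEtaleTopology (toSheafify X.smallEtaleTopology P) s 0
    (hs.trans (map_zero _).symm))).mono fun B g h => h.trans (map_zero _)

variable (X)

/-- The etale sheaf of sections of pullbacks. -/
def W : X.Modules ⥤ EtCoh.Ab X := PshF X ⋙ presheafToSheaf X.smallEtaleTopology AddCommGrpCat.{u + 1}

variable {X}

instance additive_W : (W X).Additive := by
  haveI : (presheafToSheaf X.smallEtaleTopology AddCommGrpCat.{u + 1}).Additive :=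
    (sheafificationAdjunction _ _).left_adjoint_additive
  exact inferInstanceAs (PshF X ⋙ presheafToSheaf X.smallEtaleTopology AddCommGrpCat.{u + 1}).Additive

/-- The unit into the sheaf of sections. -/
abbrev ηW (M : X.Modules) : Groth.L27.Assoc.psh M ⟶ ((W X).obj M).obj :=
  toSheafify X.smallEtaleTopology (Groth.L27.Assoc.psh M)

theorem W_map_η {M N : X.Modules} (φ : M ⟶ N) (A : X.Etale) (s : (Groth.L27.Assoc.psh M).obj (op A)) :
    ((W X).map φ).hom.app (op A) ((ηW M).app (op A) s) = (ηW N).app (op A) ((pshMap φ).app (op A) s) :=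
  (congr($(congrArg (fun k => NatTrans.app k (op A))
    (toSheafify_naturality X.smallEtaleTopology (pshMap φ))) s)).symm

theorem W_exact {T : ShortComplex X.Modules} (hT : T.Exact) : (T.map (W X)).Exact := by
  refine exact_of_loc _ fun A s hs => ?_
  refine Loc.bind (loc_toSheafify_surjective _ A s) fun B g ⟨b, hb⟩ => ?_
  have hb' : ((W X).map T.g).hom.app (op B) ((ηW T.X₂).app (op B) b) = 0 :=
    (congrArg _ hb).trans ((NatTrans.naturality_apply ((W X).map T.g).hom g.op s).trans
      ((congrArg _ hs).trans (map_zero _)))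
  rw [W_map_η] at hb'
  refine Loc.bind (loc_toSheafify_injective _ B _ hb') fun C k hk => ?_
  have hk' : (pshMap T.g).app (op C) ((Groth.L27.Assoc.psh T.X₂).map k.op b) = 0 :=
    (NatTrans.naturality_apply (pshMap T.g) k.op b).trans hk
  refine (loc_psh_exact hT C _ hk').mono fun D l ⟨a, ha⟩ => ⟨(ηW T.X₁).app (op D) a, ?_⟩
  refine (W_map_η T.f D a).trans ?_
  rw [ha, NatTrans.naturality_apply (ηW T.X₂) l.op, NatTrans.naturality_apply (ηW T.X₂) k.op]
  refine (congrArg _ (congrArg _ hb)).trans ?_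
  refine (congrArg _ (map_map_apply g k s)).trans ?_
  exact (map_map_apply (k ≫ g) l s).trans (by rw [Category.assoc])

theorem preservesHomology_W : (W X).PreservesHomology :=
  ((Functor.exact_tfae (W X)).out 1 2).1 fun T hT => W_exact hT

end Sheafify

section Injective

open Groth.L28.ProEt.Cech in
/-- Restriction along a monomorphism is surjective on an injective sheaf. -/
theorem surjective_map_of_injective (F : EtCoh.Ab X) [Injective F] {U V : X.Etale} (f : V ⟶ U) [Mono f] :
    Function.Surjective (F.obj.map f.op) := fun s => by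
  haveI : Injective F.obj := Injective.injective_of_adjoint (sheafificationAdjunction _ AddCommGrpCat.{u + 1}) F
  haveI : ∀ Z, Mono (((fp.{u + 1} X.Etale).map f).app Z) := fun Z => by
    change Mono (AddCommGrpCat.free.map ((uliftYoneda.{u + 1}.map f).app Z))
    infer_instance
  haveI : Mono ((fp.{u + 1} X.Etale).map f) := NatTrans.mono_of_mono_app _
  refine ⟨fpVal (Injective.factorThru (fpDesc F.obj s) ((fp.{u + 1} X.Etale).map f)), ?_⟩
  exact (fpVal_map f _).symm.trans
    ((congrArg fpVal (Injective.comp_factorThru _ _)).trans (fpVal_desc F.obj s))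

end Injective

section Resolution

open Groth.L28.EtCartan (Acyc acyc_of_injective acyc_X₃ surjective_sections)

variable {G : EtCoh.Ab X} (J : InjectiveResolution G)

/-- The short exact sequence of cycles. -/
abbrev cycSeq (n : ℕ) : ShortComplex (EtCoh.Ab X) :=
  ShortComplex.mk (J.cocomplex.iCycles n) (J.cocomplex.toCycles n (n + 1))
    (by rw [← cancel_mono (J.cocomplex.iCycles (n + 1)), Category.assoc, J.cocomplex.toCycles_i,
      J.cocomplex.iCycles_d, zero_comp])

theorem shortExact_cycSeq (n : ℕ) : (cycSeq J n).ShortExact where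
  exact := exact_of_loc _ fun A s hs => loc_self (by
    obtain ⟨c, hc⟩ := exists_cycle (K := J.cocomplex) n A s
      ((app_congr (J.cocomplex.toCycles_i n (n + 1)) A s).symm.trans
        ((congrArg _ hs).trans (map_zero ((J.cocomplex.iCycles (n + 1)).hom.app (op A)).hom)))
    exact ⟨c, hc.trans (map_id_apply' s).symm⟩)
  mono_f := inferInstanceAs (Mono (J.cocomplex.iCycles n))
  epi_g := by
    refine epi_of_loc _ fun A c => ?_
    refine (loc_of_exact (J.exact_succ n) A ((J.cocomplex.iCycles (n + 1)).hom.app (op A) c)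
      (app_zero_of_comp (J.cocomplex.iCycles_d (n + 1) (n + 2)) A c)).mono fun B g ⟨a, ha⟩ => ⟨a, ?_⟩
    refine injective_app_mono (J.cocomplex.iCycles (n + 1)) B ?_
    refine (hom_app_comp _ _ B a).symm.trans ?_
    rw [J.cocomplex.toCycles_i]
    exact ha.trans (NatTrans.naturality_apply (J.cocomplex.iCycles (n + 1)).hom g.op c).symm

theorem acyc_of_iso {P Q : EtCoh.Ab X} (e : P ≅ Q) (h : Acyc P) : Acyc Q := fun V U _ _ p _ =>
  Groth.L28.ProEt.Cech.acyclic_of_iso p ((sheafToPresheaf _ _).mapIso e) (h V U p)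

theorem acyc_cycles (hG : Acyc G) : ∀ n, Acyc (J.cocomplex.cycles n)
  | 0 => by
    exact acyc_of_iso (IsLimit.conePointUniqueUpToIso
      (J.exact₀.fIsKernel : IsLimit (KernelFork.ofι (J.ι.f 0) J.ι_f_zero_comp_complex_d))
      (J.cocomplex.cyclesIsKernel 0 1 (by simp))) hG
  | n + 1 =>
    haveI := J.injective n
    acyc_X₃ (shortExact_cycSeq J n) (acyc_cycles hG n) (acyc_of_injective (J.cocomplex.X n))

/-- Sections of an injective resolution of an acyclic sheaf over an affine object. -/
theorem exists_d_eq (hG : Acyc G) (A : X.Etale) [IsAffine A.left] (n : ℕ)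
    (t : (J.cocomplex.X (n + 1)).obj.obj (op A))
    (ht : (J.cocomplex.d (n + 1) (n + 1 + 1)).hom.app (op A) t = 0) :
    ∃ y, (J.cocomplex.d n (n + 1)).hom.app (op A) y = t := by
  obtain ⟨c, hc⟩ := exists_cycle (K := J.cocomplex) (n + 1) A t ht
  obtain ⟨y, hy⟩ := surjective_sections (shortExact_cycSeq J n) (acyc_cycles J hG n) (U := A) c
  refine ⟨y, ?_⟩
  rw [← J.cocomplex.toCycles_i n (n + 1), hom_app_comp]
  exact (congrArg _ hy).trans hc

end Resolution

end Groth.L23.EtRpush
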